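import Cfsg.Agent.Icosian.Lines

/-!
The 37800 minimal vectors and the 315 reflections, bijectively indexed.
-/

set_option autoImplicit false

open Quaternion
open Cfsg.Spor
open Cfsg.Agent.Icosian.Basic
open Cfsg.Agent.Icosian.Basic.QZ
open Cfsg.Agent.Icosian.Lattice
open Cfsg.Agent.Icosian.Model
open Cfsg.Agent.Icosian.Data
open Cfsg.Agent.Icosian.Tables
open Cfsg.Agent.Icosian.Enum
open Cfsg.Agent.Icosian.Lines

namespace Cfsg.Agent.Icosian.Count

/-- is the norm equal to `1`? -/
def isN1 (X : QZ) : Bool := decide (QZ.nA X = 4) && decide (QZ.nB X = 0)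

/-- the normalised coordinate of a representative -/
def pivot (v : V3) : QZ :=
  if isN1 v.z then v.z else if isN1 v.y then v.y else if isN1 v.x then v.x else
  if decide (QZ.nA v.x = 0) then (if decide (QZ.nA v.y = 0) then v.z else v.y) else v.x

/-- the value of the normalised coordinate, depending only on its norm -/
def expected (X : QZ) : QZ :=
  if decide (QZ.nA X = 4) then QOne else if decide (QZ.nA X = 16) then QZ.smul 2 QOne else QH

theorem pivot_chk : allBelow 315 (fun i =>
    QZ.beq (pivot (rep i)) (expected (pivot (rep i)))) = true := by decide +kernel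

/-- duplicate-free list of naturals -/
def nodupN : List ℕ → Bool
  | [] => true
  | m :: l => !(memN m l) && nodupN l

theorem memN_of_mem {n : ℕ} {l : List ℕ} (h : n ∈ l) : memN n l = true := by
  induction l with
  | nil => simp at h
  | cons m l ih =>
    rw [memN, Bool.or_eq_true]
    rcases List.mem_cons.mp h with h | h
    · left; rw [h]; exact Nat.beq_refl m
    · right; exact ih h

theorem nodupN_spec {l : List ℕ} (h : nodupN l = true) : l.Nodup := by
  induction l with
  | nil => exact List.nodup_nil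
  | cons m l ih =>
    rw [nodupN, Bool.and_eq_true] at h
    refine List.nodup_cons.mpr ⟨fun hm => ?_, ih h.2⟩
    rw [memN_of_mem hm] at h
    simp at h

theorem units_nodup : unitsN.Nodup := nodupN_spec (by decide +kernel)
theorem reps_nodup : repsN.Nodup := nodupN_spec (by decide +kernel)

theorem units_pk : allBelow 120 (fun i => Nat.beq (pk (unitQ i)) (unitsN.getD i 0)) = true := by
  decide +kernel
theorem reps_pk : allBelow 315 (fun i => Nat.beq (pkV (rep i)) (repsN.getD i 0)) = true := by
  decide +kernel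

theorem unitQ_inj {i j : ℕ} (hi : i < 120) (hj : j < 120) (h : unitQ i = unitQ j) : i = j := by
  have h1 := Nat.eq_of_beq_eq_true (allBelow_spec units_pk i hi)
  have h2 := Nat.eq_of_beq_eq_true (allBelow_spec units_pk j hj)
  rw [h, h2] at h1
  rw [← unitsN_length] at hi hj
  rw [List.getD_eq_getElem _ _ hi, List.getD_eq_getElem _ _ hj] at h1
  exact (units_nodup.getElem_inj_iff.mp h1).symm

theorem rep_inj {i j : ℕ} (hi : i < 315) (hj : j < 315) (h : rep i = rep j) : i = j := by
  have h1 := Nat.eq_of_beq_eq_true (allBelow_spec reps_pk i hi)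
  have h2 := Nat.eq_of_beq_eq_true (allBelow_spec reps_pk j hj)
  rw [h, h2] at h1
  rw [← repsN_length] at hi hj
  rw [List.getD_eq_getElem _ _ hi, List.getD_eq_getElem _ _ hj] at h1
  exact (reps_nodup.getElem_inj_iff.mp h1).symm

theorem nAB_of_unit_mul {q : ℍ[ℝ]} (hq : Quaternion.normSq q = 1) {A B : QZ}
    (h : toH A = q * toH B) : QZ.nA A = QZ.nA B ∧ QZ.nB A = QZ.nB B := by
  have h1 : Quaternion.normSq (toH A) = Quaternion.normSq (toH B) := by
    rw [h, map_mul, hq, one_mul]
  rw [toH_norm, toH_norm] at h1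
  exact tau_lin (by linarith)

/-- proportional representatives are equal -/
theorem rep_eq_of_smul {i j : ℕ} (hi : i < 315) (hj : j < 315) {q : ℍ[ℝ]}
    (hq : Quaternion.normSq q = 1) (h : toV (rep j) = q • toV (rep i)) : i = j ∧ q = 1 := by
  have hx : toH (rep j).x = q * toH (rep i).x := congrFun h 0
  have hy : toH (rep j).y = q * toH (rep i).y := congrFun h 1
  have hz : toH (rep j).z = q * toH (rep i).z := congrFun h 2
  obtain ⟨x1, x2⟩ := nAB_of_unit_mul hq hx
  obtain ⟨y1, y2⟩ := nAB_of_unit_mul hq hy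
  obtain ⟨z1, z2⟩ := nAB_of_unit_mul hq hz
  have hp : toH (pivot (rep j)) = q * toH (pivot (rep i)) := by
    unfold pivot isN1
    rw [x1, x2, y1, y2, z1, z2]
    split_ifs <;> assumption
  have ei := (QZ.beq_iff _ _).mp (allBelow_spec pivot_chk i hi)
  have ej := (QZ.beq_iff _ _).mp (allBelow_spec pivot_chk j hj)
  have hn := nAB_of_unit_mul hq hp
  have hee : expected (pivot (rep j)) = expected (pivot (rep i)) := by
    unfold expected
    rw [hn.1]
  rw [ei, ej, hee] at hp
  have hne : toH (expected (pivot (rep i))) ≠ 0 := by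
    intro h0
    have h1 : expected (pivot (rep i)) = QZero := toH_injective (by rw [h0, toH_QZero])
    unfold expected at h1
    split_ifs at h1 <;> revert h1 <;> decide
  have hq1 : q = 1 := by
    have : (q - 1) * toH (expected (pivot (rep i))) = 0 := by
      rw [sub_mul, one_mul, ← hp, sub_self]
    rcases mul_eq_zero.mp this with h | h
    · exact sub_eq_zero.mp h
    · exact absurd h hne
  refine ⟨?_, hq1⟩
  rw [hq1, one_smul] at h
  exact (rep_inj hj hi (toV_injective h)).symm

/-- the minimal vectors -/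
noncomputable def minVec (p : Fin 120 × Fin 315) : Fin 3 → ℍ[ℝ] :=
  toH (unitQ p.1) • toV (rep p.2)

theorem minVec_injective : Function.Injective minVec := by
  rintro ⟨⟨u, hu⟩, ⟨i, hi⟩⟩ ⟨⟨w, hw⟩, ⟨j, hj⟩⟩ h
  change toH (unitQ u) • toV (rep i) = toH (unitQ w) • toV (rep j) at h
  have h1 : toV (rep j) = (star (toH (unitQ w)) * toH (unitQ u)) • toV (rep i) := by
    rw [← smul_smul, h, star_smul_self' (unit_norm hw)]
  obtain ⟨h2, h3⟩ := rep_eq_of_smul hi hj (by
    rw [map_mul, Quaternion.normSq_star, unit_norm hu, unit_norm hw, one_mul]) h1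
  subst h2
  have h4 : toH (unitQ u) = toH (unitQ w) := by
    have : toH (unitQ w) * (star (toH (unitQ w)) * toH (unitQ u)) = toH (unitQ w) := by
      rw [h3, mul_one]
    rw [← mul_assoc, Quaternion.self_mul_star, unit_norm hw] at this
    rw [← this]
    exact (one_mul _).symm
  have h5 := unitQ_inj hu hw (toH_injective h4)
  subst h5
  rfl

theorem range_minVec :
    Set.range minVec = {r : Fin 3 → ℍ[ℝ] | r ∈ icoLeech ∧ qip r r = 4} := by
  ext x
  constructor
  · rintro ⟨⟨⟨u, hu⟩, ⟨i, hi⟩⟩, rfl⟩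
    refine ⟨leech_smul (unit_mem hu) (rep_mem hi), ?_⟩
    change qip (toH (unitQ u) • toV (rep i)) (toH (unitQ u) • toV (rep i)) = 4
    rw [qip_smul_left, qip_smul_right, rep_qip hi]
    have h4 : (4 : ℍ[ℝ]) = ((4 : ℝ) : ℍ[ℝ]) := rfl
    rw [h4, Quaternion.coe_mul_eq_smul, mul_smul_comm, Quaternion.self_mul_star, unit_norm hu,
      Quaternion.smul_coe, mul_one]
  · rintro ⟨h1, h2⟩
    obtain ⟨u, hu, i, hi, h⟩ := good_of_min h1 h2
    exact ⟨(⟨u, hu⟩, ⟨i, hi⟩), h.symm⟩

theorem card_minVec : {r : Fin 3 → ℍ[ℝ] | r ∈ icoLeech ∧ qip r r = 4}.ncard = 37800 := by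
  rw [← range_minVec, ← Nat.card_coe_set_eq,
    ← Nat.card_congr (Equiv.ofInjective minVec minVec_injective)]
  simp

/-- the lattice vector number `i` -/
noncomputable def repL (i : Fin 315) : icoLeech := ⟨toV (rep i), rep_mem i.2⟩

theorem repL_coe (i : Fin 315) : ((repL i : icoLeech) : Fin 3 → ℍ[ℝ]) = toV (rep i) := rfl

theorem repL_qip (i : Fin 315) :
    qip ((repL i : icoLeech) : Fin 3 → ℍ[ℝ]) (repL i : icoLeech) = 4 := rep_qip i.2

/-- the reflection number `i` -/
noncomputable def fl (i : Fin 315) : Equiv.Perm icoLeech := reflPerm (repL i) (repL_qip i)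

theorem fl_isRefl (i : Fin 315) : IsIcoReflection (fl i) := isIcoReflection_reflPerm _ _

theorem fl_mem (i : Fin 315) : fl i ∈ twoJ2 := reflPerm_mem _ _

theorem fl_apply (i : Fin 315) (x : icoLeech) :
    ((fl i x : icoLeech) : Fin 3 → ℍ[ℝ]) = qrefl (toV (rep i)) x := rfl

theorem fl_injective : Function.Injective fl := by
  intro i j h
  obtain ⟨q, hq, h1⟩ := smul_of_reflPerm_eq (repL_qip i) (repL_qip j) h.symm
  have hn : Quaternion.normSq q = 1 := by
    rw [Quaternion.star_mul_self] at hq
    have := congrArg QuaternionAlgebra.re hq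
    simpa using this
  exact Fin.ext (rep_eq_of_smul i.2 j.2 hn h1).1

/-- the reflection in any minimal vector is one of the `fl i` -/
theorem exists_fl (r : icoLeech) (hr : qip (r : Fin 3 → ℍ[ℝ]) r = 4) :
    ∃ i, reflPerm r hr = fl i := by
  obtain ⟨u, hu, i, hi, h⟩ := good_of_min r.2 hr
  refine ⟨⟨i, hi⟩, ?_⟩
  refine reflPerm_eq_of_smul (q := toH (unitQ u)) ?_ (repL_qip ⟨i, hi⟩) hr h
  rw [Quaternion.star_mul_self, unit_norm hu]
  rfl

theorem isRefl_iff (f : Equiv.Perm icoLeech) : IsIcoReflection f ↔ ∃ i, fl i = f := by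
  rw [isIcoReflection_iff]
  constructor
  · rintro ⟨r, hr, rfl⟩
    obtain ⟨i, hi⟩ := exists_fl r hr
    exact ⟨i, hi.symm⟩
  · rintro ⟨i, rfl⟩
    exact ⟨repL i, repL_qip i, rfl⟩

theorem range_fl : Set.range fl = {f : Equiv.Perm icoLeech | IsIcoReflection f} := by
  ext f
  exact (isRefl_iff f).symm

theorem card_refl : {f : Equiv.Perm icoLeech | IsIcoReflection f}.ncard = 315 := by
  rw [← range_fl, ← Nat.card_coe_set_eq,
    ← Nat.card_congr (Equiv.ofInjective fl fl_injective)]
  simp

end Cfsg.Agent.Icosian.Count
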