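import Cfsg.Agent.Icosian.Count
import Cfsg.Agent.Icosian.Perms

/-!
The action of `2·J₂` on the 315 reflections (lines), as a homomorphism to `Perm (Fin 315)` with
kernel the centre and image the explicit permutation group `G315`.
-/

set_option autoImplicit false

open Quaternion
open Cfsg.Spor
open Cfsg.Agent.Icosian.Basic
open Cfsg.Agent.Icosian.Lattice
open Cfsg.Agent.Icosian.Model
open Cfsg.Agent.Icosian.Data
open Cfsg.Agent.Icosian.Tables
open Cfsg.Agent.Icosian.Lines
open Cfsg.Agent.Icosian.Count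
open Cfsg.Agent.Icosian.Perms

namespace Cfsg.Agent.Icosian.Action

/-- conjugation permutes the 315 reflections -/
theorem exists_conj {g : Equiv.Perm icoLeech} (hg : IsLin g) (i : Fin 315) :
    ∃ j, g * fl i * g⁻¹ = fl j := by
  obtain ⟨hr, h⟩ := conj_reflPerm hg (repL i) (repL_qip i)
  obtain ⟨j, hj⟩ := exists_fl _ hr
  exact ⟨j, h.trans hj⟩

/-- the line to which `g` moves line `i` -/
noncomputable def act (g : twoJ2) (i : Fin 315) : Fin 315 :=
  Classical.choose (exists_conj (isLin_of_mem g.2) i)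

theorem act_spec (g : twoJ2) (i : Fin 315) :
    (g : Equiv.Perm icoLeech) * fl i * (g : Equiv.Perm icoLeech)⁻¹ = fl (act g i) :=
  Classical.choose_spec (exists_conj (isLin_of_mem g.2) i)

theorem act_eq {g : twoJ2} {i j : Fin 315}
    (h : (g : Equiv.Perm icoLeech) * fl i * (g : Equiv.Perm icoLeech)⁻¹ = fl j) :
    act g i = j := fl_injective (by rw [← act_spec, h])

/-- the action of `2·J₂` on the 315 lines -/
@[reducible] noncomputable def lineAction : MulAction twoJ2 (Fin 315) where
  smul := act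
  one_smul i := act_eq (by simp)
  mul_smul g h i := act_eq (by
    change _ = fl (act g (act h i))
    rw [← act_spec g, ← act_spec h]
    simp only [Subgroup.coe_mul, mul_inv_rev]
    group)

/-- the action of `2·J₂` on the 315 lines, as a homomorphism -/
noncomputable def phi : twoJ2 →* Equiv.Perm (Fin 315) :=
  @MulAction.toPermHom twoJ2 (Fin 315) _ lineAction

theorem phi_apply (g : twoJ2) (i : Fin 315) : phi g i = act g i := rfl

theorem phi_spec (g : twoJ2) (i : Fin 315) :
    (g : Equiv.Perm icoLeech) * fl i * (g : Equiv.Perm icoLeech)⁻¹ = fl (phi g i) := act_spec g i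

theorem phi_eq {g : twoJ2} {i j : Fin 315}
    (h : (g : Equiv.Perm icoLeech) * fl i * (g : Equiv.Perm icoLeech)⁻¹ = fl j) :
    phi g i = j := act_eq h

/-- how to compute `phi`: it is enough to know the image of a representative up to a unit -/
theorem phi_eq_of_smul {g : twoJ2} {i j : Fin 315} {q : ℍ[ℝ]} (hq : star q * q = 1)
    (h : (((g : Equiv.Perm icoLeech) (repL i) : icoLeech) : Fin 3 → ℍ[ℝ]) = q • toV (rep j)) :
    phi g i = j := by
  apply phi_eq
  obtain ⟨hr, h'⟩ := conj_reflPerm (isLin_of_mem g.2) (repL i) (repL_qip i)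
  rw [show fl i = reflPerm (repL i) (repL_qip i) from rfl, h']
  exact reflPerm_eq_of_smul hq (repL_qip j) hr h

/-- conversely -/
theorem smul_of_phi (g : twoJ2) (i : Fin 315) : ∃ q : ℍ[ℝ], star q * q = 1 ∧
    (((g : Equiv.Perm icoLeech) (repL i) : icoLeech) : Fin 3 → ℍ[ℝ]) = q • toV (rep (phi g i)) := by
  obtain ⟨hr, h'⟩ := conj_reflPerm (isLin_of_mem g.2) (repL i) (repL_qip i)
  have h1 : fl (phi g i) = reflPerm ((g : Equiv.Perm icoLeech) (repL i)) hr := by
    rw [← phi_spec, ← h']; rfl
  exact smul_of_reflPerm_eq (repL_qip (phi g i)) hr h1.symm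

theorem phi_fl_self (i : Fin 315) : phi ⟨fl i, fl_mem i⟩ i = i := by
  apply phi_eq
  change fl i * fl i * (fl i)⁻¹ = fl i
  group

/-- indices of the generating reflections -/
def gi (k : Fin 4) : Fin 315 := ⟨gidx k, gidx_lt k⟩

theorem tabs_eq : ∀ k : Fin 4, (match k with
    | 0 => tabP0
    | 1 => tabP1
    | 2 => tabP2
    | 3 => tabP3) = (List.range 315).map (tv k) := by decide +kernel

theorem tabP_eq (k : Fin 4) {i : ℕ} (hi : i < 315) : tabP k i = tv k i := by
  have h := tabs_eq k
  have h2 : ((List.range 315).map (tv k)).getD i 0 = tv k i := by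
    rw [List.getD_eq_getElem _ _ (by simpa using hi)]
    simp
  rw [← h2, ← h]
  fin_cases k <;> rfl

/-- the four generating reflections act by the explicit permutations `sg` -/
theorem phi_gen (k : Fin 4) : phi ⟨fl (gi k), fl_mem _⟩ = sg k := by
  ext i
  have h := (tab_spec k i.2).2.2
  have hu := (tab_spec k i.2).2.1
  have h1 := (tab_spec k i.2).1
  rw [tabP_eq k i.2] at h h1
  have : phi ⟨fl (gi k), fl_mem _⟩ i = sg k i := by
    apply phi_eq_of_smul (q := toH (unitQ (tabU k i)))
    · rw [Quaternion.star_mul_self, unit_norm hu]; rfl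
    · exact h
  rw [this]

/-- the subgroup generated by the four reflections -/
noncomputable def H4 : Subgroup (Equiv.Perm icoLeech) :=
  Subgroup.closure (Set.range fun k : Fin 4 => fl (gi k))

theorem H4_le : H4 ≤ twoJ2 := by
  unfold H4
  rw [Subgroup.closure_le]
  rintro _ ⟨k, rfl⟩
  exact fl_mem _

/-- every element of `G315` is induced by an element of `H4` -/
theorem lift_H4 {p : Equiv.Perm (Fin 315)} (hp : p ∈ G315) :
    ∃ g : twoJ2, (g : Equiv.Perm icoLeech) ∈ H4 ∧ phi g = p := by
  unfold G315 at hp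
  induction hp using Subgroup.closure_induction with
  | mem p hp =>
    obtain ⟨k, rfl⟩ := hp
    exact ⟨⟨fl (gi k), fl_mem _⟩, Subgroup.subset_closure ⟨k, rfl⟩, phi_gen k⟩
  | one => exact ⟨1, H4.one_mem, map_one phi⟩
  | mul p q _ _ hp hq =>
    obtain ⟨g, hg, rfl⟩ := hp
    obtain ⟨h, hh, rfl⟩ := hq
    exact ⟨g * h, H4.mul_mem hg hh, map_mul phi g h⟩
  | inv p _ hp =>
    obtain ⟨g, hg, rfl⟩ := hp
    exact ⟨g⁻¹, H4.inv_mem hg, map_inv phi g⟩

theorem fl_mem_H4 (i : Fin 315) : fl i ∈ H4 := by
  obtain ⟨p, hp, hpi⟩ := Perms.transitive (gi 2) i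
  obtain ⟨g, hg, rfl⟩ := lift_H4 hp
  rw [← hpi, ← phi_spec]
  exact H4.mul_mem (H4.mul_mem hg (Subgroup.subset_closure ⟨2, rfl⟩)) (H4.inv_mem hg)

/-- `2·J₂` is generated by four reflections -/
theorem twoJ2_eq : twoJ2 = H4 := by
  apply le_antisymm _ H4_le
  unfold twoJ2
  rw [Subgroup.closure_le]
  intro f hf
  obtain ⟨i, rfl⟩ := (isRefl_iff f).mp hf
  exact fl_mem_H4 i

theorem range_phi : phi.range = G315 := by
  apply le_antisymm
  · rintro _ ⟨g, rfl⟩
    have key : ∀ x : Equiv.Perm icoLeech, x ∈ H4 → ∀ hx : x ∈ twoJ2, phi ⟨x, hx⟩ ∈ G315 := by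
      intro x hx
      unfold H4 at hx
      induction hx using Subgroup.closure_induction with
      | mem x hx =>
        obtain ⟨k, rfl⟩ := hx
        intro hx
        have := phi_gen k
        rw [this]
        exact sg_mem k
      | one => intro hx; exact (map_one phi) ▸ G315.one_mem
      | mul x y hx' hy' hx hy =>
        intro hxy
        have h1 : x ∈ twoJ2 := H4_le hx'
        have h2 : y ∈ twoJ2 := H4_le hy'
        have : phi ⟨x * y, hxy⟩ = phi ⟨x, h1⟩ * phi ⟨y, h2⟩ := by
          rw [← map_mul]; rfl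
        rw [this]
        exact G315.mul_mem (hx h1) (hy h2)
      | inv x hx' hx =>
        intro hxi
        have h1 : x ∈ twoJ2 := H4_le hx'
        have : phi ⟨x⁻¹, hxi⟩ = (phi ⟨x, h1⟩)⁻¹ := by
          rw [← map_inv]; rfl
        rw [this]
        exact G315.inv_mem (hx h1)
    have hg : (g : Equiv.Perm icoLeech) ∈ H4 := by rw [← twoJ2_eq]; exact g.2
    exact key _ hg g.2
  · intro p hp
    obtain ⟨g, -, rfl⟩ := lift_H4 hp
    exact ⟨g, rfl⟩

/-- the kernel of the action on lines is the centre -/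
theorem ker_phi : phi.ker = Subgroup.center twoJ2 := by
  ext g
  rw [MonoidHom.mem_ker, Subgroup.mem_center_iff]
  constructor
  · intro h x
    have hcomm : ∀ y : Equiv.Perm icoLeech, y ∈ twoJ2 →
        y * (g : Equiv.Perm icoLeech) = (g : Equiv.Perm icoLeech) * y := by
      intro y hy
      unfold twoJ2 at hy
      induction hy using Subgroup.closure_induction with
      | mem f hf =>
        obtain ⟨i, rfl⟩ := (isRefl_iff f).mp hf
        have h1 := phi_spec g i
        rw [h] at h1
        change (g : Equiv.Perm icoLeech) * fl i * (g : Equiv.Perm icoLeech)⁻¹ = fl i at h1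
        rw [mul_inv_eq_iff_eq_mul] at h1
        exact h1.symm
      | one => rw [one_mul, mul_one]
      | mul x y _ _ hx hy => rw [mul_assoc, hy, ← mul_assoc, hx, mul_assoc]
      | inv x _ hx => rw [inv_mul_eq_iff_eq_mul, ← mul_assoc, hx, mul_inv_cancel_right]
    exact Subtype.ext (hcomm x x.2)
  · intro h
    ext i
    have : phi g i = i := by
      apply phi_eq
      have h1 := congrArg Subtype.val (h ⟨fl i, fl_mem i⟩)
      simp only [Subgroup.coe_mul] at h1
      rw [mul_inv_eq_iff_eq_mul]
      exact h1.symm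
    rw [this]; rfl

/-- `J₂` is isomorphic to the explicit permutation group `G315` -/
noncomputable def J2_equiv : J2 ≃* G315 :=
  (QuotientGroup.quotientMulEquivOfEq ker_phi.symm).trans
    ((QuotientGroup.quotientKerEquivRange phi).trans (MulEquiv.subgroupCongr range_phi))

theorem J2_equiv_mk (g : twoJ2) :
    ((J2_equiv (QuotientGroup.mk g) : G315) : Equiv.Perm (Fin 315)) = phi g := rfl

/-- transitivity on the 315 reflections by conjugation -/
theorem refl_transitive (i j : Fin 315) : ∃ g : twoJ2, phi g i = j := by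
  obtain ⟨p, hp, hpi⟩ := Perms.transitive i j
  obtain ⟨g, hg, rfl⟩ := lift_H4 hp
  exact ⟨g, hpi⟩

end Cfsg.Agent.Icosian.Action
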