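import Cfsg.Prelude.Def_Spor_J2

/-!
Icosians: an exact integer model.

An icosian `x` is stored through its doubled coordinates: `X : QZ` holds eight integers and
`toH X = ((a0 + b0 τ)/2, (a1 + b1 τ)/2, (a2 + b2 τ)/2, (a3 + b3 τ)/2)`.
-/

set_option autoImplicit false

open Quaternion
open Cfsg.Spor

namespace Cfsg.Agent.Icosian.Basic

/-- doubled coordinates (in `ℤ[τ]`) of a quaternion over `ℚ(√5)`. -/
structure QZ where
  a0 : ℤ
  b0 : ℤ
  a1 : ℤ
  b1 : ℤ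
  a2 : ℤ
  b2 : ℤ
  a3 : ℤ
  b3 : ℤ

namespace QZ

/-- boolean equality, kernel friendly -/
def beq (X Y : QZ) : Bool :=
  decide (X.a0 = Y.a0) && decide (X.b0 = Y.b0) && decide (X.a1 = Y.a1) && decide (X.b1 = Y.b1) &&
  decide (X.a2 = Y.a2) && decide (X.b2 = Y.b2) && decide (X.a3 = Y.a3) && decide (X.b3 = Y.b3)

theorem beq_iff (X Y : QZ) : beq X Y = true ↔ X = Y := by
  cases X; cases Y
  simp only [beq, Bool.and_eq_true, decide_eq_true_eq, QZ.mk.injEq]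
  tauto

instance decEqQZ : DecidableEq QZ := fun X Y =>
  decidable_of_iff (beq X Y = true) (beq_iff X Y)

/-- sum -/
def add (X Y : QZ) : QZ :=
  ⟨X.a0 + Y.a0, X.b0 + Y.b0, X.a1 + Y.a1, X.b1 + Y.b1, X.a2 + Y.a2, X.b2 + Y.b2,
    X.a3 + Y.a3, X.b3 + Y.b3⟩

/-- difference -/
def sub (X Y : QZ) : QZ :=
  ⟨X.a0 - Y.a0, X.b0 - Y.b0, X.a1 - Y.a1, X.b1 - Y.b1, X.a2 - Y.a2, X.b2 - Y.b2,
    X.a3 - Y.a3, X.b3 - Y.b3⟩

/-- integer multiple -/
def smul (n : ℤ) (X : QZ) : QZ :=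
  ⟨n * X.a0, n * X.b0, n * X.a1, n * X.b1, n * X.a2, n * X.b2, n * X.a3, n * X.b3⟩

/-- quaternion conjugate -/
def conj (X : QZ) : QZ :=
  ⟨X.a0, X.b0, -X.a1, -X.b1, -X.a2, -X.b2, -X.a3, -X.b3⟩

/-- product of doubled coordinates (this is twice the doubled coordinates of the product) -/
def mul (X Y : QZ) : QZ :=
  ⟨(X.a0 * Y.a0 + X.b0 * Y.b0) - (X.a1 * Y.a1 + X.b1 * Y.b1)
      - (X.a2 * Y.a2 + X.b2 * Y.b2) - (X.a3 * Y.a3 + X.b3 * Y.b3),
   (X.a0 * Y.b0 + X.b0 * Y.a0 + X.b0 * Y.b0) - (X.a1 * Y.b1 + X.b1 * Y.a1 + X.b1 * Y.b1)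
      - (X.a2 * Y.b2 + X.b2 * Y.a2 + X.b2 * Y.b2) - (X.a3 * Y.b3 + X.b3 * Y.a3 + X.b3 * Y.b3),
   (X.a0 * Y.a1 + X.b0 * Y.b1) + (X.a1 * Y.a0 + X.b1 * Y.b0)
      + (X.a2 * Y.a3 + X.b2 * Y.b3) - (X.a3 * Y.a2 + X.b3 * Y.b2),
   (X.a0 * Y.b1 + X.b0 * Y.a1 + X.b0 * Y.b1) + (X.a1 * Y.b0 + X.b1 * Y.a0 + X.b1 * Y.b0)
      + (X.a2 * Y.b3 + X.b2 * Y.a3 + X.b2 * Y.b3) - (X.a3 * Y.b2 + X.b3 * Y.a2 + X.b3 * Y.b2),
   (X.a0 * Y.a2 + X.b0 * Y.b2) - (X.a1 * Y.a3 + X.b1 * Y.b3)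
      + (X.a2 * Y.a0 + X.b2 * Y.b0) + (X.a3 * Y.a1 + X.b3 * Y.b1),
   (X.a0 * Y.b2 + X.b0 * Y.a2 + X.b0 * Y.b2) - (X.a1 * Y.b3 + X.b1 * Y.a3 + X.b1 * Y.b3)
      + (X.a2 * Y.b0 + X.b2 * Y.a0 + X.b2 * Y.b0) + (X.a3 * Y.b1 + X.b3 * Y.a1 + X.b3 * Y.b1),
   (X.a0 * Y.a3 + X.b0 * Y.b3) + (X.a1 * Y.a2 + X.b1 * Y.b2)
      - (X.a2 * Y.a1 + X.b2 * Y.b1) + (X.a3 * Y.a0 + X.b3 * Y.b0),
   (X.a0 * Y.b3 + X.b0 * Y.a3 + X.b0 * Y.b3) + (X.a1 * Y.b2 + X.b1 * Y.a2 + X.b1 * Y.b2)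
      - (X.a2 * Y.b1 + X.b2 * Y.a1 + X.b2 * Y.b1) + (X.a3 * Y.b0 + X.b3 * Y.a0 + X.b3 * Y.b0)⟩

/-- rational part of four times the norm -/
def nA (X : QZ) : ℤ :=
  X.a0 * X.a0 + X.b0 * X.b0 + (X.a1 * X.a1 + X.b1 * X.b1) + (X.a2 * X.a2 + X.b2 * X.b2)
    + (X.a3 * X.a3 + X.b3 * X.b3)

/-- `τ`-part of four times the norm -/
def nB (X : QZ) : ℤ :=
  (2 * X.a0 * X.b0 + X.b0 * X.b0) + (2 * X.a1 * X.b1 + X.b1 * X.b1)
    + (2 * X.a2 * X.b2 + X.b2 * X.b2) + (2 * X.a3 * X.b3 + X.b3 * X.b3)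

end QZ

open QZ

theorem tau_sq : tau * tau = tau + 1 := by
  have h5 : Real.sqrt 5 * Real.sqrt 5 = 5 := Real.mul_self_sqrt (by norm_num)
  unfold tau
  linear_combination (1 / 4 : ℝ) * h5

theorem sig_eq : sig = 1 - tau := by
  unfold sig tau
  ring

theorem sqrt5_eq : Real.sqrt 5 = 2 * tau - 1 := by
  unfold tau
  ring

theorem tau_eq_goldenRatio : tau = Real.goldenRatio := rfl

theorem tau_irrational : Irrational tau := Real.goldenRatio_irrational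

theorem tau_lin {a b c d : ℤ} (h : (a : ℝ) + b * tau = c + d * tau) : a = c ∧ b = d := by
  by_cases hbd : b = d
  · subst hbd
    have : (a : ℝ) = c := by linarith
    exact ⟨by exact_mod_cast this, rfl⟩
  · exfalso
    have hne : ((d : ℝ) - b) ≠ 0 := by
      intro h0
      apply hbd
      have : (b : ℝ) = d := by linarith
      exact_mod_cast this
    have ht : tau = ((a - c : ℤ) : ℝ) / ((d - b : ℤ) : ℝ) := by
      push_cast
      rw [eq_div_iff hne]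
      linarith
    apply tau_irrational
    rw [ht]
    exact ⟨((a - c : ℤ) : ℚ) / ((d - b : ℤ) : ℚ), by push_cast; rfl⟩

/-- the quaternion with doubled coordinates `X` -/
noncomputable def toH (X : QZ) : ℍ[ℝ] :=
  ⟨(X.a0 + X.b0 * tau) / 2, (X.a1 + X.b1 * tau) / 2, (X.a2 + X.b2 * tau) / 2,
    (X.a3 + X.b3 * tau) / 2⟩

theorem toH_re (X : QZ) : (toH X).re = (X.a0 + X.b0 * tau) / 2 := rfl
theorem toH_imI (X : QZ) : (toH X).imI = (X.a1 + X.b1 * tau) / 2 := rfl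
theorem toH_imJ (X : QZ) : (toH X).imJ = (X.a2 + X.b2 * tau) / 2 := rfl
theorem toH_imK (X : QZ) : (toH X).imK = (X.a3 + X.b3 * tau) / 2 := rfl

theorem toH_injective : Function.Injective toH := by
  intro X Y h
  have h0 := congrArg QuaternionAlgebra.re h
  have h1 := congrArg QuaternionAlgebra.imI h
  have h2 := congrArg QuaternionAlgebra.imJ h
  have h3 := congrArg QuaternionAlgebra.imK h
  rw [toH_re, toH_re] at h0
  rw [toH_imI, toH_imI] at h1
  rw [toH_imJ, toH_imJ] at h2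
  rw [toH_imK, toH_imK] at h3
  have e0 := tau_lin (a := X.a0) (b := X.b0) (c := Y.a0) (d := Y.b0) (by linarith)
  have e1 := tau_lin (a := X.a1) (b := X.b1) (c := Y.a1) (d := Y.b1) (by linarith)
  have e2 := tau_lin (a := X.a2) (b := X.b2) (c := Y.a2) (d := Y.b2) (by linarith)
  have e3 := tau_lin (a := X.a3) (b := X.b3) (c := Y.a3) (d := Y.b3) (by linarith)
  cases X; cases Y
  simp only [QZ.mk.injEq]
  exact ⟨e0.1, e0.2, e1.1, e1.2, e2.1, e2.2, e3.1, e3.2⟩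

theorem toH_add (X Y : QZ) : toH (add X Y) = toH X + toH Y := by
  ext
  · rw [Quaternion.re_add, toH_re, toH_re, toH_re]; simp only [add]; push_cast; ring
  · rw [Quaternion.imI_add, toH_imI, toH_imI, toH_imI]; simp only [add]; push_cast; ring
  · rw [Quaternion.imJ_add, toH_imJ, toH_imJ, toH_imJ]; simp only [add]; push_cast; ring
  · rw [Quaternion.imK_add, toH_imK, toH_imK, toH_imK]; simp only [add]; push_cast; ring

theorem toH_sub (X Y : QZ) : toH (sub X Y) = toH X - toH Y := by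
  ext
  · rw [Quaternion.re_sub, toH_re, toH_re, toH_re]; simp only [sub]; push_cast; ring
  · rw [Quaternion.imI_sub, toH_imI, toH_imI, toH_imI]; simp only [sub]; push_cast; ring
  · rw [Quaternion.imJ_sub, toH_imJ, toH_imJ, toH_imJ]; simp only [sub]; push_cast; ring
  · rw [Quaternion.imK_sub, toH_imK, toH_imK, toH_imK]; simp only [sub]; push_cast; ring

theorem toH_smul (n : ℤ) (X : QZ) : toH (smul n X) = (n : ℝ) • toH X := by
  ext
  · rw [Quaternion.re_smul, toH_re, toH_re]; simp only [smul, smul_eq_mul]; push_cast; ring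
  · rw [Quaternion.imI_smul, toH_imI, toH_imI]; simp only [smul, smul_eq_mul]; push_cast; ring
  · rw [Quaternion.imJ_smul, toH_imJ, toH_imJ]; simp only [smul, smul_eq_mul]; push_cast; ring
  · rw [Quaternion.imK_smul, toH_imK, toH_imK]; simp only [smul, smul_eq_mul]; push_cast; ring

theorem toH_conj (X : QZ) : toH (conj X) = star (toH X) := by
  ext
  · rw [Quaternion.re_star, toH_re, toH_re]; simp only [conj]
  · rw [Quaternion.imI_star, toH_imI, toH_imI]; simp only [conj]; push_cast; ring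
  · rw [Quaternion.imJ_star, toH_imJ, toH_imJ]; simp only [conj]; push_cast; ring
  · rw [Quaternion.imK_star, toH_imK, toH_imK]; simp only [conj]; push_cast; ring

theorem toH_mul (X Y : QZ) : toH (mul X Y) = (2 : ℝ) • (toH X * toH Y) := by
  have ht := tau_sq
  ext
  · rw [Quaternion.re_smul, Quaternion.re_mul]
    simp only [toH_re, toH_imI, toH_imJ, toH_imK, mul, smul_eq_mul]
    push_cast
    linear_combination (-(X.b0 * Y.b0 - X.b1 * Y.b1 - X.b2 * Y.b2 - X.b3 * Y.b3) / 2 : ℝ) * ht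
  · rw [Quaternion.imI_smul, Quaternion.imI_mul]
    simp only [toH_re, toH_imI, toH_imJ, toH_imK, mul, smul_eq_mul]
    push_cast
    linear_combination (-(X.b0 * Y.b1 + X.b1 * Y.b0 + X.b2 * Y.b3 - X.b3 * Y.b2) / 2 : ℝ) * ht
  · rw [Quaternion.imJ_smul, Quaternion.imJ_mul]
    simp only [toH_re, toH_imI, toH_imJ, toH_imK, mul, smul_eq_mul]
    push_cast
    linear_combination (-(X.b0 * Y.b2 - X.b1 * Y.b3 + X.b2 * Y.b0 + X.b3 * Y.b1) / 2 : ℝ) * ht
  · rw [Quaternion.imK_smul, Quaternion.imK_mul]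
    simp only [toH_re, toH_imI, toH_imJ, toH_imK, mul, smul_eq_mul]
    push_cast
    linear_combination (-(X.b0 * Y.b3 + X.b1 * Y.b2 - X.b2 * Y.b1 + X.b3 * Y.b0) / 2 : ℝ) * ht

theorem toH_norm (X : QZ) :
    Quaternion.normSq (toH X) = ((nA X : ℤ) + (nB X : ℤ) * tau) / 4 := by
  have ht := tau_sq
  rw [Quaternion.normSq_def']
  simp only [toH_re, toH_imI, toH_imJ, toH_imK, nA, nB]
  push_cast
  linear_combination ((X.b0 * X.b0 + X.b1 * X.b1 + X.b2 * X.b2 + X.b3 * X.b3) / 4 : ℝ) * ht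

/-! ### The icosian ring in coordinates -/

/-- parity conditions describing the icosians in doubled coordinates -/
def par (X : QZ) : Bool :=
  decide ((X.a2 - X.b0 - X.a1 - X.b1) % 2 = 0) && decide ((X.b2 - X.a0 - X.b0 - X.a1) % 2 = 0) &&
  decide ((X.a3 - X.a0 - X.b0 - X.b1) % 2 = 0) && decide ((X.b3 - X.a0 - X.a1 - X.b1) % 2 = 0)

theorem par_iff (X : QZ) : par X = true ↔
    (X.a2 - X.b0 - X.a1 - X.b1) % 2 = 0 ∧ (X.b2 - X.a0 - X.b0 - X.a1) % 2 = 0 ∧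
    (X.a3 - X.a0 - X.b0 - X.b1) % 2 = 0 ∧ (X.b3 - X.a0 - X.a1 - X.b1) % 2 = 0 := by
  simp only [par, Bool.and_eq_true, decide_eq_true_eq]
  tauto

theorem par_add {X Y : QZ} (hX : par X = true) (hY : par Y = true) : par (add X Y) = true := by
  rw [par_iff] at *
  simp only [add]
  omega

theorem par_sub {X Y : QZ} (hX : par X = true) (hY : par Y = true) : par (sub X Y) = true := by
  rw [par_iff] at *
  simp only [sub]
  omega

theorem par_conj {X : QZ} (hX : par X = true) : par (conj X) = true := by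
  rw [par_iff] at *
  simp only [conj]
  omega

/-- the generator `i` -/
def GI : QZ := ⟨0, 0, 2, 0, 0, 0, 0, 0⟩
/-- the generator `(1 + σ i + τ k)/2` -/
def GG : QZ := ⟨1, 0, 1, -1, 0, 0, 0, 1⟩
/-- doubled coordinates of `1` -/
def QOne : QZ := ⟨2, 0, 0, 0, 0, 0, 0, 0⟩
/-- doubled coordinates of `0` -/
def QZero : QZ := ⟨0, 0, 0, 0, 0, 0, 0, 0⟩
/-- doubled coordinates of `τ` -/
def QTau : QZ := ⟨0, 2, 0, 0, 0, 0, 0, 0⟩
/-- doubled coordinates of `σ` -/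
def QSig : QZ := ⟨2, -2, 0, 0, 0, 0, 0, 0⟩
/-- doubled coordinates of `h` -/
def QH : QZ := ⟨1, -2, 1, 0, 1, 0, 1, 0⟩

theorem toH_QOne : toH QOne = 1 := by
  ext
  · rw [toH_re]; simp [QOne]
  · rw [toH_imI]; simp [QOne]
  · rw [toH_imJ]; simp [QOne]
  · rw [toH_imK]; simp [QOne]

theorem toH_QZero : toH QZero = 0 := by
  ext
  · rw [toH_re]; simp [QZero]
  · rw [toH_imI]; simp [QZero]
  · rw [toH_imJ]; simp [QZero]
  · rw [toH_imK]; simp [QZero]

theorem toH_GI : toH GI = qI := by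
  ext
  · rw [toH_re]; simp [GI, qI]
  · rw [toH_imI]; simp [GI, qI]
  · rw [toH_imJ]; simp [GI, qI]
  · rw [toH_imK]; simp [GI, qI]

theorem toH_GG : toH GG = (⟨1 / 2, sig / 2, 0, tau / 2⟩ : ℍ[ℝ]) := by
  ext
  · rw [toH_re]; simp [GG]
  · rw [toH_imI, sig_eq]; simp [GG]; ring
  · rw [toH_imJ]; simp [GG]
  · rw [toH_imK]; simp [GG]

theorem toH_QH : toH QH = icoH := by
  ext
  · rw [toH_re]; simp only [QH, icoH]; rw [sqrt5_eq]; push_cast; ring
  · rw [toH_imI]; simp [QH, icoH]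
  · rw [toH_imJ]; simp [QH, icoH]
  · rw [toH_imK]; simp [QH, icoH]

theorem toH_QTau : toH QTau = (tau : ℍ[ℝ]) := by
  ext
  · rw [toH_re]; simp [QTau]
  · rw [toH_imI]; simp [QTau]
  · rw [toH_imJ]; simp [QTau]
  · rw [toH_imK]; simp [QTau]

theorem toH_QSig : toH QSig = (sig : ℍ[ℝ]) := by
  ext
  · rw [toH_re]; simp only [QSig]; rw [sig_eq]; simp; ring
  · rw [toH_imI]; simp [QSig]
  · rw [toH_imJ]; simp [QSig]
  · rw [toH_imK]; simp [QSig]

theorem half_eq {X Y : ℍ[ℝ]} (h : (2 : ℝ) • X = (2 : ℝ) • Y) : X = Y :=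
  smul_right_injective _ (two_ne_zero) h

theorem toH_mul_eq {A B C : QZ} (h : mul A B = smul 2 C) : toH A * toH B = toH C := by
  apply half_eq
  rw [← toH_mul, h, toH_smul]
  norm_num

theorem toH_mul_eq' {A B C : QZ} (h : toH A * toH B = toH C) : mul A B = smul 2 C := by
  apply toH_injective
  rw [toH_mul, h, toH_smul]
  norm_num

/-- coordinatewise halving -/
def halve (X : QZ) : QZ :=
  ⟨X.a0 / 2, X.b0 / 2, X.a1 / 2, X.b1 / 2, X.a2 / 2, X.b2 / 2, X.a3 / 2, X.b3 / 2⟩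

/-- check a word in the two generators (right multiplication), starting from `A`, ending at `T` -/
def wordOK : QZ → List Bool → QZ → Bool
  | A, [], T => beq A T
  | A, b :: l, T =>
      beq (smul 2 (halve (mul A (cond b GG GI)))) (mul A (cond b GG GI)) &&
      wordOK (halve (mul A (cond b GG GI))) l T

theorem GI_mem : toH GI ∈ icosians := by
  rw [toH_GI]; exact Subring.subset_closure (by simp)

theorem GG_mem : toH GG ∈ icosians := by
  rw [toH_GG]; exact Subring.subset_closure (Set.mem_insert_of_mem _ rfl)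

theorem wordOK_mem (l : List Bool) : ∀ (A T : QZ), toH A ∈ icosians → wordOK A l T = true →
    toH T ∈ icosians := by
  induction l with
  | nil =>
    intro A T hA h
    rw [wordOK, beq_iff] at h
    rw [← h]; exact hA
  | cons b l ih =>
    intro A T hA h
    rw [wordOK, Bool.and_eq_true, beq_iff] at h
    refine ih _ T ?_ h.2
    have h1 := toH_mul_eq h.1.symm
    rw [← h1]
    refine icosians.mul_mem hA ?_
    cases b
    · exact GI_mem
    · exact GG_mem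

theorem word_mem (l : List Bool) (T : QZ) (h : wordOK QOne l T = true) : toH T ∈ icosians :=
  wordOK_mem l QOne T (by rw [toH_QOne]; exact icosians.one_mem) h

/-- witnesses for the parity conditions -/
theorem par_wit {X : QZ} (hX : par X = true) : ∃ k1 k2 k3 k4 : ℤ,
    X = ⟨X.a0, X.b0, X.a1, X.b1, X.b0 + X.a1 + X.b1 + 2 * k1, X.a0 + X.b0 + X.a1 + 2 * k2,
      X.a0 + X.b0 + X.b1 + 2 * k3, X.a0 + X.a1 + X.b1 + 2 * k4⟩ := by
  rw [par_iff] at hX
  obtain ⟨h1, h2, h3, h4⟩ := hX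
  refine ⟨(X.a2 - X.b0 - X.a1 - X.b1) / 2, (X.b2 - X.a0 - X.b0 - X.a1) / 2,
    (X.a3 - X.a0 - X.b0 - X.b1) / 2, (X.b3 - X.a0 - X.a1 - X.b1) / 2, ?_⟩
  obtain ⟨a0, b0, a1, b1, a2, b2, a3, b3⟩ := X
  simp only [QZ.mk.injEq]
  simp only at h1 h2 h3 h4
  refine ⟨trivial, trivial, trivial, trivial, ?_, ?_, ?_, ?_⟩ <;> omega

theorem par_mk (a0 b0 a1 b1 k1 k2 k3 k4 : ℤ) :
    par ⟨a0, b0, a1, b1, b0 + a1 + b1 + 2 * k1, a0 + b0 + a1 + 2 * k2,
      a0 + b0 + b1 + 2 * k3, a0 + a1 + b1 + 2 * k4⟩ = true := by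
  rw [par_iff]
  simp only
  refine ⟨?_, ?_, ?_, ?_⟩ <;> omega

theorem par_mul_GI (X : QZ) (hX : par X = true) : ∃ C, mul X GI = smul 2 C ∧ par C = true := by
  obtain ⟨k1, k2, k3, k4, h⟩ := par_wit hX
  generalize X.a0 = a0, X.b0 = b0, X.a1 = a1, X.b1 = b1 at h
  subst h
  refine ⟨⟨-a1, -b1, a0, b0, a0 + b0 + b1 + 2 * k3, a0 + a1 + b1 + 2 * k4,
    -b0 - a1 - b1 - 2 * k1, -a0 - b0 - a1 - 2 * k2⟩, ?_, ?_⟩
  · simp only [mul, smul, GI, QZ.mk.injEq]
    refine ⟨?_, ?_, ?_, ?_, ?_, ?_, ?_, ?_⟩ <;> ring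
  · rw [par_iff]
    simp only
    refine ⟨?_, ?_, ?_, ?_⟩ <;> omega

theorem par_mul_GG (X : QZ) (hX : par X = true) : ∃ C, mul X GG = smul 2 C ∧ par C = true := by
  obtain ⟨k1, k2, k3, k4, h⟩ := par_wit hX
  generalize X.a0 = a0, X.b0 = b0, X.a1 = a1, X.b1 = b1 at h
  subst h
  refine ⟨⟨-a1 - k4, -a0 - b1 - k3 - k4, a0 + a1 + k2, b0 + a1 + b1 + k1 + k2,
    b0 + k1 + k3 - k4, -b1 + k2 - k3, a0 + b0 - k1 + k2 + k3,
    a0 + b0 + a1 + b1 + k1 + k4⟩, ?_, ?_⟩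
  · simp only [mul, smul, GG, QZ.mk.injEq]
    refine ⟨?_, ?_, ?_, ?_, ?_, ?_, ?_, ?_⟩ <;> ring
  · rw [par_iff]
    simp only
    refine ⟨?_, ?_, ?_, ?_⟩ <;> omega

theorem toH_neg (X : QZ) : toH (smul (-1) X) = - toH X := by
  rw [toH_smul]; simp

theorem par_smul {X : QZ} (n : ℤ) (hX : par X = true) : par (smul n X) = true := by
  obtain ⟨k1, k2, k3, k4, h⟩ := par_wit hX
  generalize X.a0 = a0, X.b0 = b0, X.a1 = a1, X.b1 = b1 at h
  subst h
  have := par_mk (n * a0) (n * b0) (n * a1) (n * b1) (n * k1) (n * k2) (n * k3) (n * k4)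
  rw [← this]
  congr 1
  simp only [smul, QZ.mk.injEq]
  refine ⟨trivial, trivial, trivial, trivial, ?_, ?_, ?_, ?_⟩ <;> ring

/-- the additive group of all integral combinations, in coordinates -/
def parGroup : AddSubgroup ℍ[ℝ] where
  carrier := {x | ∃ X, par X = true ∧ toH X = x}
  zero_mem' := ⟨QZero, by decide, toH_QZero⟩
  add_mem' := by
    rintro _ _ ⟨X, hX, rfl⟩ ⟨Y, hY, rfl⟩
    exact ⟨add X Y, par_add hX hY, toH_add X Y⟩
  neg_mem' := by
    rintro _ ⟨X, hX, rfl⟩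
    exact ⟨smul (-1) X, par_smul _ hX, toH_neg X⟩

theorem par_of_mem {x : ℍ[ℝ]} (hx : x ∈ icosians) : ∃ X, par X = true ∧ toH X = x := by
  have hx' : x ∈ AddSubgroup.closure
      (Submonoid.closure ({qI, ⟨1 / 2, sig / 2, 0, tau / 2⟩} : Set ℍ[ℝ]) : Set ℍ[ℝ]) :=
    Subring.mem_closure_iff.mp hx
  have hle : AddSubgroup.closure
      (Submonoid.closure ({qI, ⟨1 / 2, sig / 2, 0, tau / 2⟩} : Set ℍ[ℝ]) : Set ℍ[ℝ]) ≤ parGroup := by
    rw [AddSubgroup.closure_le]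
    intro y hy
    refine Submonoid.closure_induction_right (motive := fun y _ => y ∈ (parGroup : Set ℍ[ℝ])) ?_ ?_ hy
    · exact ⟨QOne, by decide, toH_QOne⟩
    · rintro y _ z hz ⟨Y, hY, rfl⟩
      rcases hz with rfl | hz
      · obtain ⟨C, hC, hC'⟩ := par_mul_GI Y hY
        exact ⟨C, hC', by rw [← toH_mul_eq hC, toH_GI]⟩
      · replace hz : z = ⟨1 / 2, sig / 2, 0, tau / 2⟩ := hz
        subst hz
        obtain ⟨C, hC, hC'⟩ := par_mul_GG Y hY
        exact ⟨C, hC', by rw [← toH_mul_eq hC, toH_GG]⟩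
  exact hle hx'

theorem mem_c1 : toH ⟨1, 0, 0, 0, 0, 1, 1, -1⟩ ∈ icosians :=
  word_mem [false, true, false, true, false, true, true, false, true, true] _ (by decide)
theorem mem_c2 : toH ⟨0, 1, 0, 0, 1, -1, 1, 0⟩ ∈ icosians :=
  word_mem [false, false, false, true, true, false, true, false, true, true, false, true] _
    (by decide)
theorem mem_c3 : toH ⟨0, 0, 1, 0, 1, -1, 0, 1⟩ ∈ icosians :=
  word_mem [false, false, false, true, false, true, false, true, true, false, true] _ (by decide)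
theorem mem_c4 : toH ⟨0, 0, 0, 1, 1, 0, 1, -1⟩ ∈ icosians :=
  word_mem [true, false, true, true, false, true, false, true, true] _ (by decide)
theorem mem_j : toH ⟨0, 0, 0, 0, 2, 0, 0, 0⟩ ∈ icosians :=
  word_mem [false, true, false, true, true, false, true, false, true, true, false, true] _
    (by decide)
theorem mem_k : toH ⟨0, 0, 0, 0, 0, 0, 2, 0⟩ ∈ icosians :=
  word_mem [false, false, true, false, true, true, false, true, false, true, true, false, true] _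
    (by decide)
theorem mem_tau : toH QTau ∈ icosians := by
  have h1 : toH ⟨0, 1, 1, -1, -1, 0, 0, 0⟩ ∈ icosians :=
    word_mem [false, false, true, false, true, false] _ (by decide)
  have h2 : toH ⟨0, 1, -1, 1, 1, 0, 0, 0⟩ ∈ icosians :=
    word_mem [false, false, false, true, true, false, true, true] _ (by decide)
  have h3 := icosians.add_mem h1 h2
  rw [← toH_add] at h3
  have h4 : add ⟨0, 1, 1, -1, -1, 0, 0, 0⟩ ⟨0, 1, -1, 1, 1, 0, 0, 0⟩ = QTau := by decide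
  rwa [h4] at h3
theorem mem_tj : toH ⟨0, 0, 0, 0, 0, 2, 0, 0⟩ ∈ icosians := by
  rw [← toH_mul_eq (A := QTau) (B := ⟨0, 0, 0, 0, 2, 0, 0, 0⟩) (by decide)]
  exact icosians.mul_mem mem_tau mem_j
theorem mem_tk : toH ⟨0, 0, 0, 0, 0, 0, 0, 2⟩ ∈ icosians := by
  rw [← toH_mul_eq (A := QTau) (B := ⟨0, 0, 0, 0, 0, 0, 2, 0⟩) (by decide)]
  exact icosians.mul_mem mem_tau mem_k

theorem smul_mem {X : QZ} (n : ℤ) (h : toH X ∈ icosians) : toH (smul n X) ∈ icosians := by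
  have : toH (smul n X) = n • toH X := by
    rw [toH_smul]
    exact Int.cast_smul_eq_zsmul ℝ n (toH X)
  rw [this]
  exact icosians.zsmul_mem h n

theorem mem_of_par {X : QZ} (hX : par X = true) : toH X ∈ icosians := by
  obtain ⟨k1, k2, k3, k4, h⟩ := par_wit hX
  generalize X.a0 = a0, X.b0 = b0, X.a1 = a1, X.b1 = b1 at h
  have h' : X = add (smul a0 ⟨1, 0, 0, 0, 0, 1, 1, -1⟩) (add (smul b0 ⟨0, 1, 0, 0, 1, -1, 1, 0⟩)
      (add (smul a1 ⟨0, 0, 1, 0, 1, -1, 0, 1⟩) (add (smul b1 ⟨0, 0, 0, 1, 1, 0, 1, -1⟩)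
      (add (smul k1 ⟨0, 0, 0, 0, 2, 0, 0, 0⟩) (add (smul (k2 + b0 + a1) ⟨0, 0, 0, 0, 0, 2, 0, 0⟩)
      (add (smul k3 ⟨0, 0, 0, 0, 0, 0, 2, 0⟩)
        (smul (k4 + a0 + b1) ⟨0, 0, 0, 0, 0, 0, 0, 2⟩))))))) := by
    rw [h]
    simp only [add, smul, QZ.mk.injEq]
    refine ⟨?_, ?_, ?_, ?_, ?_, ?_, ?_, ?_⟩ <;> ring
  rw [h']
  simp only [toH_add]
  refine icosians.add_mem (smul_mem _ mem_c1) (icosians.add_mem (smul_mem _ mem_c2)
    (icosians.add_mem (smul_mem _ mem_c3) (icosians.add_mem (smul_mem _ mem_c4)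
    (icosians.add_mem (smul_mem _ mem_j) (icosians.add_mem (smul_mem _ mem_tj)
    (icosians.add_mem (smul_mem _ mem_k) (smul_mem _ mem_tk)))))))

theorem mem_icosians_iff (x : ℍ[ℝ]) : x ∈ icosians ↔ ∃ X, par X = true ∧ toH X = x :=
  ⟨par_of_mem, fun ⟨_, hX, h⟩ => h ▸ mem_of_par hX⟩

theorem toH_mem_iff (X : QZ) : toH X ∈ icosians ↔ par X = true := by
  constructor
  · intro h
    obtain ⟨Y, hY, h'⟩ := par_of_mem h
    rw [← toH_injective h']; exact hY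
  · exact mem_of_par

theorem star_mem {x : ℍ[ℝ]} (hx : x ∈ icosians) : star x ∈ icosians := by
  obtain ⟨X, hX, rfl⟩ := par_of_mem hx
  rw [← toH_conj]
  exact mem_of_par (par_conj hX)

theorem tau_mem : (tau : ℍ[ℝ]) ∈ icosians := by
  rw [← toH_QTau]; exact mem_tau

theorem sig_mem : (sig : ℍ[ℝ]) ∈ icosians := by
  rw [← toH_QSig]; exact mem_of_par (by decide)

theorem icoH_mem : icoH ∈ icosians := by
  rw [← toH_QH]; exact mem_of_par (by decide)

/-- `mul` respects the icosian parity conditions -/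
theorem par_mul {X Y : QZ} (hX : par X = true) (hY : par Y = true) :
    ∃ C, mul X Y = smul 2 C ∧ par C = true := by
  have h := icosians.mul_mem (mem_of_par hX) (mem_of_par hY)
  obtain ⟨C, hC, hC'⟩ := par_of_mem h
  exact ⟨C, toH_mul_eq' hC'.symm, hC⟩

/-! ### The element `h` and its left ideals -/

theorem icoH_mul_star : icoH * star icoH = 2 := by
  rw [← toH_QH, ← toH_conj, toH_mul_eq (C := ⟨4, 0, 0, 0, 0, 0, 0, 0⟩) (by decide)]
  have : (⟨4, 0, 0, 0, 0, 0, 0, 0⟩ : QZ) = smul 2 QOne := by decide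
  rw [this, toH_smul, toH_QOne]
  push_cast
  rw [two_smul, one_add_one_eq_two]

theorem star_mul_icoH : star icoH * icoH = 2 := by
  rw [← toH_QH, ← toH_conj, toH_mul_eq (C := ⟨4, 0, 0, 0, 0, 0, 0, 0⟩) (by decide)]
  have : (⟨4, 0, 0, 0, 0, 0, 0, 0⟩ : QZ) = smul 2 QOne := by decide
  rw [this, toH_smul, toH_QOne]
  push_cast
  rw [two_smul, one_add_one_eq_two]

theorem icoH_add_star : icoH + star icoH = 1 - 2 * (tau : ℍ[ℝ]) := by
  have h2 : (2 : ℍ[ℝ]) * (tau : ℍ[ℝ]) = toH (smul 2 QTau) := by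
    rw [toH_smul, toH_QTau]
    push_cast
    rw [two_smul, two_mul]
  rw [h2, ← toH_QH, ← toH_conj, ← toH_add, ← toH_QOne, ← toH_sub]
  congr 1

theorem mem_leftIdeal_icoH (x : ℍ[ℝ]) :
    x ∈ leftIdeal icoH ↔ ∃ a ∈ icosians, x * star icoH = 2 * a := by
  constructor
  · rintro ⟨a, ha, rfl⟩
    exact ⟨a, ha, by rw [mul_assoc, icoH_mul_star]; exact mul_two a ▸ (two_mul a).symm⟩
  · rintro ⟨a, ha, h⟩
    refine ⟨a, ha, ?_⟩
    have h2 : x * star icoH * icoH = 2 * a * icoH := by rw [h]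
    rw [mul_assoc, star_mul_icoH, mul_assoc, mul_two, two_mul] at h2
    have h3 : (2 : ℝ) • x = (2 : ℝ) • (a * icoH) := by
      rw [two_smul, two_smul]; exact h2
    exact half_eq h3

theorem mem_leftIdeal_star_icoH (x : ℍ[ℝ]) :
    x ∈ leftIdeal (star icoH) ↔ ∃ a ∈ icosians, x * icoH = 2 * a := by
  constructor
  · rintro ⟨a, ha, rfl⟩
    exact ⟨a, ha, by rw [mul_assoc, star_mul_icoH]; exact mul_two a ▸ (two_mul a).symm⟩
  · rintro ⟨a, ha, h⟩
    refine ⟨a, ha, ?_⟩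
    have h2 : x * icoH * star icoH = 2 * a * star icoH := by rw [h]
    rw [mul_assoc, icoH_mul_star, mul_assoc, mul_two, two_mul] at h2
    have h3 : (2 : ℝ) • x = (2 : ℝ) • (a * star icoH) := by
      rw [two_smul, two_smul]; exact h2
    exact half_eq h3

/-- coordinatewise division by four -/
def quarter (X : QZ) : QZ :=
  ⟨X.a0 / 4, X.b0 / 4, X.a1 / 4, X.b1 / 4, X.a2 / 4, X.b2 / 4, X.a3 / 4, X.b3 / 4⟩

/-- `mul X B` is four times an icosian -/
def chk4 (X B : QZ) : Bool :=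
  beq (smul 4 (quarter (mul X B))) (mul X B) && par (quarter (mul X B))

theorem chk4_iff (X B : QZ) :
    chk4 X B = true ↔ ∃ Y, par Y = true ∧ mul X B = smul 4 Y := by
  constructor
  · intro h
    rw [chk4, Bool.and_eq_true, beq_iff] at h
    exact ⟨_, h.2, h.1.symm⟩
  · rintro ⟨Y, hY, h⟩
    have hq : quarter (mul X B) = Y := by
      rw [h]
      obtain ⟨a0, b0, a1, b1, a2, b2, a3, b3⟩ := Y
      simp only [quarter, smul, QZ.mk.injEq]
      refine ⟨?_, ?_, ?_, ?_, ?_, ?_, ?_, ?_⟩ <;> omega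
    rw [chk4, hq, Bool.and_eq_true, beq_iff]
    exact ⟨h.symm, hY⟩

theorem chk4_mem (X B : QZ) :
    chk4 X B = true ↔ ∃ a ∈ icosians, toH X * toH B = 2 * a := by
  rw [chk4_iff]
  constructor
  · rintro ⟨Y, hY, h⟩
    refine ⟨toH Y, mem_of_par hY, ?_⟩
    apply half_eq
    rw [← toH_mul, h, toH_smul]
    push_cast
    rw [two_mul, ← two_smul ℝ (toH Y), smul_smul]
    norm_num
  · rintro ⟨a, ha, h⟩
    obtain ⟨Y, hY, rfl⟩ := par_of_mem ha
    refine ⟨Y, hY, ?_⟩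
    apply toH_injective
    rw [toH_mul, h, toH_smul]
    push_cast
    rw [two_mul, ← two_smul ℝ (toH Y), smul_smul]
    norm_num

theorem toH_mem_leftIdeal (X : QZ) : toH X ∈ leftIdeal icoH ↔ chk4 X (conj QH) = true := by
  rw [mem_leftIdeal_icoH, chk4_mem, toH_conj, toH_QH]

theorem toH_mem_leftIdeal_star (X : QZ) :
    toH X ∈ leftIdeal (star icoH) ↔ chk4 X QH = true := by
  rw [mem_leftIdeal_star_icoH, chk4_mem, toH_QH]

end Cfsg.Agent.Icosian.Basic
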