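import Cfsg.Agent.Icosian.Data

/-!
Enumeration of icosians of small norm.
-/

set_option autoImplicit false

open Quaternion
open Cfsg.Spor
open Cfsg.Agent.Icosian.Basic
open Cfsg.Agent.Icosian.Basic.QZ
open Cfsg.Agent.Icosian.Lattice
open Cfsg.Agent.Icosian.Model
open Cfsg.Agent.Icosian.Data

namespace Cfsg.Agent.Icosian.Enum

/-- run `P` on all integers `a` with `a² ≤ m` (for `m < 9`), passing the remaining budget -/
def tryAll (m : ℕ) (P : ℤ → ℕ → Bool) : Bool :=
  P 0 m &&
  (if 1 ≤ m then P 1 (m - 1) && P (-1) (m - 1) else true) &&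
  (if 4 ≤ m then P 2 (m - 4) && P (-2) (m - 4) else true)

theorem tryAll_spec {m : ℕ} (hm : m < 9) {P : ℤ → ℕ → Bool} (h : tryAll m P = true)
    (a : ℤ) (k : ℕ) (ha : a * a + k = m) : P a k = true := by
  simp only [tryAll, Bool.and_eq_true] at h
  obtain ⟨⟨h0, h1⟩, h2⟩ := h
  have hb : -2 ≤ a ∧ a ≤ 2 := by
    constructor <;> nlinarith
  obtain ⟨hb1, hb2⟩ := hb
  interval_cases a
  · have hk : k = m - 4 := by omega
    have : 4 ≤ m := by omega
    rw [if_pos this, Bool.and_eq_true] at h2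
    rw [hk]; exact h2.2
  · have hk : k = m - 1 := by omega
    have : 1 ≤ m := by omega
    rw [if_pos this, Bool.and_eq_true] at h1
    rw [hk]; exact h1.2
  · have hk : k = m := by omega
    rw [hk]; exact h0
  · have hk : k = m - 1 := by omega
    have : 1 ≤ m := by omega
    rw [if_pos this, Bool.and_eq_true] at h1
    rw [hk]; exact h1.1
  · have hk : k = m - 4 := by omega
    have : 4 ≤ m := by omega
    rw [if_pos this, Bool.and_eq_true] at h2
    rw [hk]; exact h2.1

/-- run `P` on all `X` with `nA X = m` (for `m < 9`) -/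
def enum (m : ℕ) (P : QZ → Bool) : Bool :=
  tryAll m fun a0 m => tryAll m fun b0 m => tryAll m fun a1 m => tryAll m fun b1 m =>
  tryAll m fun a2 m => tryAll m fun b2 m => tryAll m fun a3 m => tryAll m fun b3 m =>
  if m = 0 then P ⟨a0, b0, a1, b1, a2, b2, a3, b3⟩ else true

theorem sq_step {a : ℤ} {S : ℤ} {m : ℕ} (hS : 0 ≤ S) (h : a * a + S = m) :
    a * a + ((m - (a * a).toNat : ℕ) : ℤ) = m ∧ S = ((m - (a * a).toNat : ℕ) : ℤ) := by
  have h1 : 0 ≤ a * a := mul_self_nonneg a
  omega

theorem enum_spec {m : ℕ} (hm : m < 9) {P : QZ → Bool} (h : enum m P = true) (X : QZ)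
    (hX : QZ.nA X = m) : P X = true := by
  obtain ⟨a0, b0, a1, b1, a2, b2, a3, b3⟩ := X
  simp only [QZ.nA] at hX
  have q0 := mul_self_nonneg a0
  have q1 := mul_self_nonneg b0
  have q2 := mul_self_nonneg a1
  have q3 := mul_self_nonneg b1
  have q4 := mul_self_nonneg a2
  have q5 := mul_self_nonneg b2
  have q6 := mul_self_nonneg a3
  have q7 := mul_self_nonneg b3
  generalize e0 : a0 * a0 = s0 at *
  generalize e1 : b0 * b0 = s1 at *
  generalize e2 : a1 * a1 = s2 at *
  generalize e3 : b1 * b1 = s3 at *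
  generalize e4 : a2 * a2 = s4 at *
  generalize e5 : b2 * b2 = s5 at *
  generalize e6 : a3 * a3 = s6 at *
  generalize e7 : b3 * b3 = s7 at *
  unfold enum at h
  have h := tryAll_spec hm h a0 (s1 + s2 + s3 + s4 + s5 + s6 + s7).toNat (by rw [e0]; omega)
  have h := tryAll_spec (by omega) h b0 (s2 + s3 + s4 + s5 + s6 + s7).toNat (by rw [e1]; omega)
  have h := tryAll_spec (by omega) h a1 (s3 + s4 + s5 + s6 + s7).toNat (by rw [e2]; omega)
  have h := tryAll_spec (by omega) h b1 (s4 + s5 + s6 + s7).toNat (by rw [e3]; omega)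
  have h := tryAll_spec (by omega) h a2 (s5 + s6 + s7).toNat (by rw [e4]; omega)
  have h := tryAll_spec (by omega) h b2 (s6 + s7).toNat (by rw [e5]; omega)
  have h := tryAll_spec (by omega) h a3 (s7).toNat (by rw [e6]; omega)
  have h := tryAll_spec (by omega) h b3 0 (by rw [e7]; omega)
  simpa using h

/-! ### Packing and membership in the data lists -/

/-- pack eight small coordinates -/
def pk (X : QZ) : ℕ :=
  (X.a0 + 8).toNat + 16 * ((X.b0 + 8).toNat + 16 * ((X.a1 + 8).toNat + 16 * ((X.b1 + 8).toNat +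
  16 * ((X.a2 + 8).toNat + 16 * ((X.b2 + 8).toNat + 16 * ((X.a3 + 8).toNat +
  16 * (X.b3 + 8).toNat))))))

/-- pack a triple -/
def pkV (v : V3) : ℕ := pk v.x + 4294967296 * (pk v.y + 4294967296 * pk v.z)

/-- membership in a list of naturals -/
def memN (n : ℕ) : List ℕ → Bool
  | [] => false
  | m :: l => Nat.beq m n || memN n l

theorem memN_spec {n : ℕ} {l : List ℕ} (h : memN n l = true) :
    ∃ i, i < l.length ∧ l.getD i 0 = n := by
  induction l with
  | nil => simp [memN] at h
  | cons m l ih =>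
    rw [memN, Bool.or_eq_true] at h
    rcases h with h | h
    · exact ⟨0, by simp, Nat.eq_of_beq_eq_true h⟩
    · obtain ⟨i, hi, h'⟩ := ih h
      exact ⟨i + 1, by simpa using hi, by simpa using h'⟩

/-- `X` is (the unpacking of) a member of the list `l` -/
def memQ (X : QZ) (l : List ℕ) : Bool := memN (pk X) l && QZ.beq (decQ (pk X)) X

/-- `v` is (the unpacking of) a member of the list `l` -/
def memV (v : V3) (l : List ℕ) : Bool := memN (pkV v) l && V3.beq (decV (pkV v)) v

theorem memQ_units {X : QZ} (h : memQ X unitsN = true) : ∃ i, i < 120 ∧ unitQ i = X := by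
  rw [memQ, Bool.and_eq_true, QZ.beq_iff] at h
  obtain ⟨i, hi, h'⟩ := memN_spec h.1
  exact ⟨i, by rwa [unitsN_length] at hi, by rw [unitQ, h', h.2]⟩

theorem memV_reps {v : V3} (h : memV v repsN = true) : ∃ i, i < 315 ∧ rep i = v := by
  rw [memV, Bool.and_eq_true, V3.beq_iff] at h
  obtain ⟨i, hi, h'⟩ := memN_spec h.1
  exact ⟨i, by rwa [repsN_length] at hi, by rw [rep, h', h.2]⟩

/-- the 16 icosians `y` of norm `1` or `τ²` with `y - 1 ∈ I h`, packed -/
def l1N : List ℕ := [0x88888886, 0x98787878, 0x78987878, 0x78789878, 0x98989878, 0x88888688,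
  0x88868888, 0x86888888, 0x8a888888, 0x888a8888, 0x88888a88, 0x78787898, 0x98987898,
  0x98789898, 0x78989898, 0x8888888a]

/-- condition checked for all `X` with `nA X = 4` -/
def P1 (X : QZ) : Bool :=
  !(par X) || ((if decide (QZ.nB X = 0) then memQ X unitsN else decide (QZ.nB X = 4)) &&
    (!(chk4 (QZ.sub X QOne) (conj QH)) || memQ X l1N))

/-- condition checked for all `X` with `nA X = 8`, for one `Y` -/
def P2 (X Y : QZ) : Bool :=
  !(decide (QZ.nB X + QZ.nB Y = 0)) || !(chk4 (QZ.add (QZ.add X Y) QOne) QH) ||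
    memV ⟨X, Y, QOne⟩ repsN

/-- condition checked for all `X` with `nA X = 8` -/
def P3 (X : QZ) : Bool :=
  !(par X) || !(chk4 (QZ.sub X QOne) (conj QH)) || l1N.all (fun n => P2 X (decQ n))

/-- condition checked for all units -/
def P4 (i : ℕ) : Bool :=
  QZ.beq (QZ.smul 2 (halve (QZ.mul (unitQ i) QH))) (QZ.mul (unitQ i) QH) &&
  (!(inL ⟨QH, halve (QZ.mul (unitQ i) QH), QZero⟩) ||
    memV ⟨QH, halve (QZ.mul (unitQ i) QH), QZero⟩ repsN)

theorem enum1 : enum 4 P1 = true := by decide +kernel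

theorem enum3 : enum 8 P3 = true := by decide +kernel

theorem enum4 : allBelow 120 P4 = true := by decide +kernel

end Cfsg.Agent.Icosian.Enum
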