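import Cfsg.Agent.Icosian.Basic

/-!
The icosian Leech lattice: coordinates, Hermitian product, reflections.
-/

set_option autoImplicit false

open Quaternion
open Cfsg.Spor
open Cfsg.Agent.Icosian.Basic
open Cfsg.Agent.Icosian.Basic.QZ

namespace Cfsg.Agent.Icosian.Lattice

/-! ### Algebra of the Hermitian product -/

theorem qip_def (x r : Fin 3 → ℍ[ℝ]) :
    qip x r = x 0 * star (r 0) + x 1 * star (r 1) + x 2 * star (r 2) := by
  unfold qip
  rw [Fin.sum_univ_three]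

theorem qip_add_left (x y r : Fin 3 → ℍ[ℝ]) : qip (x + y) r = qip x r + qip y r := by
  simp only [qip_def, Pi.add_apply, add_mul]; abel

theorem qip_sub_left (x y r : Fin 3 → ℍ[ℝ]) : qip (x - y) r = qip x r - qip y r := by
  simp only [qip_def, Pi.sub_apply, sub_mul]; abel

theorem qip_add_right (x y r : Fin 3 → ℍ[ℝ]) : qip x (y + r) = qip x y + qip x r := by
  simp only [qip_def, Pi.add_apply, star_add, mul_add]; abel

theorem qip_sub_right (x y r : Fin 3 → ℍ[ℝ]) : qip x (y - r) = qip x y - qip x r := by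
  simp only [qip_def, Pi.sub_apply, star_sub, mul_sub]; abel

theorem qip_smul_left (q : ℍ[ℝ]) (x r : Fin 3 → ℍ[ℝ]) : qip (q • x) r = q * qip x r := by
  simp only [qip_def, Pi.smul_apply, smul_eq_mul, mul_add, mul_assoc]

theorem qip_smul_right (q : ℍ[ℝ]) (x r : Fin 3 → ℍ[ℝ]) : qip x (q • r) = qip x r * star q := by
  simp only [qip_def, Pi.smul_apply, smul_eq_mul, star_mul, add_mul, mul_assoc]

theorem star_qip (x r : Fin 3 → ℍ[ℝ]) : star (qip x r) = qip r x := by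
  simp only [qip_def, star_add, star_mul, star_star]

theorem qip_zero_left (r : Fin 3 → ℍ[ℝ]) : qip 0 r = 0 := by
  simp only [qip_def, Pi.zero_apply, zero_mul, add_zero]

theorem qip_self (x : Fin 3 → ℍ[ℝ]) :
    qip x x = ((Quaternion.normSq (x 0) + Quaternion.normSq (x 1) + Quaternion.normSq (x 2) : ℝ)
      : ℍ[ℝ]) := by
  rw [qip_def]
  simp only [Quaternion.self_mul_star]
  push_cast
  rfl

/-- the reflection written with a left scalar -/
theorem qrefl_eq (r x : Fin 3 → ℍ[ℝ]) : qrefl r x = x - ((1 / 2 : ℝ) • qip x r) • r := by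
  funext t
  simp only [qrefl, Pi.sub_apply, Pi.smul_apply, smul_eq_mul]

theorem two_half (q : ℍ[ℝ]) : (1 / 2 : ℝ) • q + (1 / 2 : ℝ) • q = q := by
  rw [← add_smul]; norm_num

theorem qip_half_left (q : ℍ[ℝ]) (x r : Fin 3 → ℍ[ℝ]) :
    qip (((1 / 2 : ℝ) • q) • x) r = ((1 / 2 : ℝ) • q) * qip x r := qip_smul_left _ _ _

theorem four_mul_half (q : ℍ[ℝ]) : ((1 / 2 : ℝ) • q) * 4 = q + q := by
  have h4 : (4 : ℍ[ℝ]) = ((4 : ℝ) : ℍ[ℝ]) := rfl
  rw [h4, Quaternion.mul_coe_eq_smul, smul_smul, ← two_smul ℝ q]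
  norm_num

theorem qip_qrefl_self {r : Fin 3 → ℍ[ℝ]} (hr : qip r r = 4) (x : Fin 3 → ℍ[ℝ]) :
    qip (qrefl r x) r = - qip x r := by
  rw [qrefl_eq, qip_sub_left, qip_smul_left, hr, four_mul_half]
  abel

theorem qrefl_qrefl {r : Fin 3 → ℍ[ℝ]} (hr : qip r r = 4) (x : Fin 3 → ℍ[ℝ]) :
    qrefl r (qrefl r x) = x := by
  rw [qrefl_eq r (qrefl r x), qip_qrefl_self hr, qrefl_eq r x, smul_neg, neg_smul]
  abel

theorem qrefl_self {r : Fin 3 → ℍ[ℝ]} (hr : qip r r = 4) : qrefl r r = - r := by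
  rw [qrefl_eq, hr]
  have h4 : (4 : ℍ[ℝ]) = ((4 : ℝ) : ℍ[ℝ]) := rfl
  have : ((1 / 2 : ℝ) • (4 : ℍ[ℝ])) = 2 := by
    rw [h4, Quaternion.smul_coe]; norm_num
    rfl
  rw [this, two_smul]
  abel

theorem qip_qrefl_qrefl {r : Fin 3 → ℍ[ℝ]} (hr : qip r r = 4) (x y : Fin 3 → ℍ[ℝ]) :
    qip (qrefl r x) (qrefl r y) = qip x y := by
  rw [qrefl_eq r y, qip_sub_right, qip_smul_right, qip_qrefl_self hr, qrefl_eq r x, qip_sub_left,
    qip_smul_left, Quaternion.star_smul, star_qip y r, smul_mul_assoc, mul_smul_comm, neg_mul,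
    smul_neg]
  abel

theorem qrefl_add (r x y : Fin 3 → ℍ[ℝ]) : qrefl r (x + y) = qrefl r x + qrefl r y := by
  simp only [qrefl_eq, qip_add_left, smul_add, add_smul]
  abel

theorem qrefl_smul (r x : Fin 3 → ℍ[ℝ]) (q : ℍ[ℝ]) : qrefl r (q • x) = q • qrefl r x := by
  simp only [qrefl_eq, qip_smul_left, smul_sub, smul_smul]
  simp only [mul_smul_comm]

/-- the reflection only depends on the line: unit multiples give the same reflection -/
theorem qrefl_unit_smul {q : ℍ[ℝ]} (hq : star q * q = 1) (r x : Fin 3 → ℍ[ℝ]) :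
    qrefl (q • r) x = qrefl r x := by
  rw [qrefl_eq, qrefl_eq, qip_smul_right, smul_smul, ← smul_mul_assoc, mul_assoc, hq, mul_one]

theorem qrefl_neg (r x : Fin 3 → ℍ[ℝ]) : qrefl r (-x) = - qrefl r x := by
  have := qrefl_smul r x (-1)
  rwa [neg_one_smul, neg_one_smul] at this

/-! ### The lattice `Λ` -/

theorem leftIdeal_add {q x y : ℍ[ℝ]} (hx : x ∈ leftIdeal q) (hy : y ∈ leftIdeal q) :
    x + y ∈ leftIdeal q := by
  obtain ⟨a, ha, rfl⟩ := hx
  obtain ⟨b, hb, rfl⟩ := hy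
  exact ⟨a + b, icosians.add_mem ha hb, (add_mul a b q).symm⟩

theorem leftIdeal_sub {q x y : ℍ[ℝ]} (hx : x ∈ leftIdeal q) (hy : y ∈ leftIdeal q) :
    x - y ∈ leftIdeal q := by
  obtain ⟨a, ha, rfl⟩ := hx
  obtain ⟨b, hb, rfl⟩ := hy
  exact ⟨a - b, icosians.sub_mem ha hb, (sub_mul a b q).symm⟩

theorem leftIdeal_mul {q c x : ℍ[ℝ]} (hc : c ∈ icosians) (hx : x ∈ leftIdeal q) :
    c * x ∈ leftIdeal q := by
  obtain ⟨a, ha, rfl⟩ := hx
  exact ⟨c * a, icosians.mul_mem hc ha, (mul_assoc c a q).symm⟩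

theorem leech_add {x y : Fin 3 → ℍ[ℝ]} (hx : x ∈ icoLeech) (hy : y ∈ icoLeech) :
    x + y ∈ icoLeech := by
  obtain ⟨h1, h2, h3, h4⟩ := hx
  obtain ⟨k1, k2, k3, k4⟩ := hy
  refine ⟨fun t => icosians.add_mem (h1 t) (k1 t), ?_, ?_, ?_⟩
  · have := leftIdeal_add h2 k2
    rwa [show x 0 - x 1 + (y 0 - y 1) = (x + y) 0 - (x + y) 1 by
      simp only [Pi.add_apply]; abel] at this
  · have := leftIdeal_add h3 k3
    rwa [show x 1 - x 2 + (y 1 - y 2) = (x + y) 1 - (x + y) 2 by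
      simp only [Pi.add_apply]; abel] at this
  · have := leftIdeal_add h4 k4
    rwa [show x 0 + x 1 + x 2 + (y 0 + y 1 + y 2) = (x + y) 0 + (x + y) 1 + (x + y) 2 by
      simp only [Pi.add_apply]; abel] at this

theorem leech_smul {c : ℍ[ℝ]} (hc : c ∈ icosians) {x : Fin 3 → ℍ[ℝ]} (hx : x ∈ icoLeech) :
    c • x ∈ icoLeech := by
  obtain ⟨h1, h2, h3, h4⟩ := hx
  refine ⟨fun t => icosians.mul_mem hc (h1 t), ?_, ?_, ?_⟩
  · have := leftIdeal_mul hc h2
    rwa [mul_sub] at this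
  · have := leftIdeal_mul hc h3
    rwa [mul_sub] at this
  · have := leftIdeal_mul hc h4
    rwa [mul_add, mul_add] at this

theorem leech_neg {x : Fin 3 → ℍ[ℝ]} (hx : x ∈ icoLeech) : -x ∈ icoLeech := by
  have := leech_smul (icosians.neg_mem icosians.one_mem) hx
  rwa [neg_one_smul] at this

theorem leech_sub {x y : Fin 3 → ℍ[ℝ]} (hx : x ∈ icoLeech) (hy : y ∈ icoLeech) :
    x - y ∈ icoLeech := by
  rw [sub_eq_add_neg]
  exact leech_add hx (leech_neg hy)

/-- the Hermitian product of two lattice vectors is twice an icosian -/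
theorem qip_even {x r : Fin 3 → ℍ[ℝ]} (hx : x ∈ icoLeech) (hr : r ∈ icoLeech) :
    ∃ a ∈ icosians, qip x r = 2 * a := by
  obtain ⟨hx0, ⟨a, ha, hxa⟩, ⟨b, hb, hxb⟩, ⟨c, hc, hxc⟩⟩ := hx
  obtain ⟨hr0, ⟨a', ha', hra⟩, ⟨b', hb', hrb⟩, ⟨c', hc', hrc⟩⟩ := hr
  have hA : ∀ p q : ℍ[ℝ], p * q = 2 * (tau : ℍ[ℝ]) * (p * q) + p * icoH * q + p * star icoH * q := by
    intro p q
    have h1 : p * icoH * q + p * star icoH * q = p * (icoH + star icoH) * q := by
      rw [mul_add, add_mul]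
    rw [add_assoc, h1, icoH_add_star]
    have h2 : p * (1 - 2 * (tau : ℍ[ℝ])) = (1 - 2 * (tau : ℍ[ℝ])) * p := by
      have : (1 - 2 * (tau : ℍ[ℝ])) = ((1 - 2 * tau : ℝ) : ℍ[ℝ]) := by push_cast; rfl
      rw [this, Quaternion.coe_commutes]
    rw [h2]
    noncomm_ring
  have e1 : x 0 = x 1 + a * icoH := by rw [← hxa]; abel
  have e2 : x 2 = x 1 - b * icoH := by rw [← hxb]; abel
  have f1 : star (r 0) = star (r 1) + star icoH * star a' := by
    have : r 0 = r 1 + a' * icoH := by rw [← hra]; abel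
    rw [this, star_add, star_mul]
  have f2 : star (r 2) = star (r 1) - star icoH * star b' := by
    have : r 2 = r 1 - b' * icoH := by rw [← hrb]; abel
    rw [this, star_sub, star_mul]
  have f3 : star (r 0) + star (r 1) + star (r 2) = icoH * star c' := by
    rw [← star_add, ← star_add, hrc, star_mul, star_star]
  have hT2 : x 0 * icoH * star (r 0) + x 1 * icoH * star (r 1) + x 2 * icoH * star (r 2)
      = 2 * (c * star (r 1) + x 0 * star a' - x 2 * star b') := by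
    have g0 : x 0 * icoH * star (r 0) = x 0 * icoH * star (r 1) + 2 * (x 0 * star a') := by
      rw [f1, mul_add, ← mul_assoc, mul_assoc (x 0) icoH (star icoH), icoH_mul_star, mul_two,
        two_mul, add_mul]
    have g2 : x 2 * icoH * star (r 2) = x 2 * icoH * star (r 1) - 2 * (x 2 * star b') := by
      rw [f2, mul_sub, ← mul_assoc, mul_assoc (x 2) icoH (star icoH), icoH_mul_star, mul_two,
        two_mul, add_mul]
    have g3 : x 0 * icoH * star (r 1) + x 1 * icoH * star (r 1) + x 2 * icoH * star (r 1)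
        = 2 * (c * star (r 1)) := by
      rw [← add_mul, ← add_mul, ← add_mul, ← add_mul, hxc, mul_assoc c, star_mul_icoH, mul_two,
        two_mul, add_mul]
    rw [g0, g2]
    have : 2 * (c * star (r 1) + x 0 * star a' - x 2 * star b') = 2 * (c * star (r 1))
      + 2 * (x 0 * star a') - 2 * (x 2 * star b') := by noncomm_ring
    rw [this, ← g3]
    abel
  have hT3 : x 0 * star icoH * star (r 0) + x 1 * star icoH * star (r 1)
      + x 2 * star icoH * star (r 2)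
      = 2 * (x 1 * star c' + a * star (r 0) - b * star (r 2)) := by
    have g0 : x 0 * star icoH * star (r 0) = x 1 * star icoH * star (r 0)
        + 2 * (a * star (r 0)) := by
      rw [e1, add_mul, add_mul, mul_assoc a, icoH_mul_star, mul_two, two_mul, add_mul]
    have g2 : x 2 * star icoH * star (r 2) = x 1 * star icoH * star (r 2)
        - 2 * (b * star (r 2)) := by
      rw [e2, sub_mul, sub_mul, mul_assoc b, icoH_mul_star, mul_two, two_mul, add_mul]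
    have g3 : x 1 * star icoH * star (r 0) + x 1 * star icoH * star (r 1)
        + x 1 * star icoH * star (r 2) = 2 * (x 1 * star c') := by
      rw [← mul_add, ← mul_add, f3, mul_assoc, ← mul_assoc (star icoH), star_mul_icoH, two_mul,
        mul_add, two_mul]
    rw [g0, g2]
    have : 2 * (x 1 * star c' + a * star (r 0) - b * star (r 2)) = 2 * (x 1 * star c')
      + 2 * (a * star (r 0)) - 2 * (b * star (r 2)) := by noncomm_ring
    rw [this, ← g3]
    abel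
  refine ⟨(tau : ℍ[ℝ]) * qip x r + (c * star (r 1) + x 0 * star a' - x 2 * star b')
    + (x 1 * star c' + a * star (r 0) - b * star (r 2)), ?_, ?_⟩
  · have hq : qip x r ∈ icosians := by
      rw [qip_def]
      exact icosians.add_mem (icosians.add_mem (icosians.mul_mem (hx0 0) (star_mem (hr0 0)))
        (icosians.mul_mem (hx0 1) (star_mem (hr0 1)))) (icosians.mul_mem (hx0 2) (star_mem (hr0 2)))
    refine icosians.add_mem (icosians.add_mem (icosians.mul_mem tau_mem hq) ?_) ?_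
    · exact icosians.sub_mem (icosians.add_mem (icosians.mul_mem hc (star_mem (hr0 1)))
        (icosians.mul_mem (hx0 0) (star_mem ha'))) (icosians.mul_mem (hx0 2) (star_mem hb'))
    · exact icosians.sub_mem (icosians.add_mem (icosians.mul_mem (hx0 1) (star_mem hc'))
        (icosians.mul_mem ha (star_mem (hr0 0)))) (icosians.mul_mem hb (star_mem (hr0 2)))
  · rw [mul_add, mul_add, ← hT2, ← hT3, ← mul_assoc]
    rw [qip_def]
    conv_lhs => rw [hA (x 0) (star (r 0)), hA (x 1) (star (r 1)), hA (x 2) (star (r 2))]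
    rw [mul_add, mul_add]
    abel

theorem qrefl_mem {x r : Fin 3 → ℍ[ℝ]} (hx : x ∈ icoLeech) (hr : r ∈ icoLeech) :
    qrefl r x ∈ icoLeech := by
  obtain ⟨a, ha, h⟩ := qip_even hx hr
  rw [qrefl_eq, h]
  have : (1 / 2 : ℝ) • (2 * a) = a := by
    rw [two_mul, smul_add, two_half]
  rw [this]
  exact leech_sub hx (leech_smul ha hr)

/-! ### Reflections as permutations of `Λ` -/

/-- the reflection in a lattice vector `r` with `r·r = 4`, as a permutation of `Λ` -/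
noncomputable def reflPerm (r : icoLeech) (hr : qip (r : Fin 3 → ℍ[ℝ]) r = 4) :
    Equiv.Perm icoLeech where
  toFun x := ⟨qrefl (r : Fin 3 → ℍ[ℝ]) x, qrefl_mem x.2 r.2⟩
  invFun x := ⟨qrefl (r : Fin 3 → ℍ[ℝ]) x, qrefl_mem x.2 r.2⟩
  left_inv x := Subtype.ext (qrefl_qrefl hr x)
  right_inv x := Subtype.ext (qrefl_qrefl hr x)

theorem reflPerm_apply (r : icoLeech) (hr : qip (r : Fin 3 → ℍ[ℝ]) r = 4) (x : icoLeech) :
    ((reflPerm r hr x : icoLeech) : Fin 3 → ℍ[ℝ]) = qrefl (r : Fin 3 → ℍ[ℝ]) x := rfl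

theorem isIcoReflection_reflPerm (r : icoLeech) (hr : qip (r : Fin 3 → ℍ[ℝ]) r = 4) :
    IsIcoReflection (reflPerm r hr) := ⟨r, hr, fun _ => rfl⟩

theorem isIcoReflection_iff (f : Equiv.Perm icoLeech) :
    IsIcoReflection f ↔ ∃ (r : icoLeech) (hr : qip (r : Fin 3 → ℍ[ℝ]) r = 4),
      f = reflPerm r hr := by
  constructor
  · rintro ⟨r, hr, h⟩
    refine ⟨r, hr, ?_⟩
    ext1 x
    exact Subtype.ext (h x)
  · rintro ⟨r, hr, rfl⟩
    exact isIcoReflection_reflPerm r hr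

theorem reflPerm_mem (r : icoLeech) (hr : qip (r : Fin 3 → ℍ[ℝ]) r = 4) :
    reflPerm r hr ∈ twoJ2 := Subgroup.subset_closure (isIcoReflection_reflPerm r hr)

theorem reflPerm_mul_self (r : icoLeech) (hr : qip (r : Fin 3 → ℍ[ℝ]) r = 4) :
    reflPerm r hr * reflPerm r hr = 1 := by
  ext1 x
  exact Subtype.ext (qrefl_qrefl hr x)

theorem reflPerm_inv (r : icoLeech) (hr : qip (r : Fin 3 → ℍ[ℝ]) r = 4) :
    (reflPerm r hr)⁻¹ = reflPerm r hr :=
  inv_eq_of_mul_eq_one_left (reflPerm_mul_self r hr)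

/-- the reflection as a linear equivalence of `ℍ³` -/
noncomputable def reflLin (r : Fin 3 → ℍ[ℝ]) (hr : qip r r = 4) :
    (Fin 3 → ℍ[ℝ]) ≃ₗ[ℍ[ℝ]] (Fin 3 → ℍ[ℝ]) where
  toFun := qrefl r
  map_add' := qrefl_add r
  map_smul' q x := qrefl_smul r x q
  invFun := qrefl r
  left_inv := qrefl_qrefl hr
  right_inv := qrefl_qrefl hr

/-- `g` is the restriction of a left-linear isometry of `ℍ³` -/
def IsLin (g : Equiv.Perm icoLeech) : Prop :=
  ∃ F : (Fin 3 → ℍ[ℝ]) ≃ₗ[ℍ[ℝ]] (Fin 3 → ℍ[ℝ]),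
    (∀ x : icoLeech, ((g x : icoLeech) : Fin 3 → ℍ[ℝ]) = F x) ∧
    ∀ x y : Fin 3 → ℍ[ℝ], qip (F x) (F y) = qip x y

theorem isLin_one : IsLin 1 := ⟨LinearEquiv.refl _ _, fun _ => rfl, fun _ _ => rfl⟩

theorem isLin_mul {g h : Equiv.Perm icoLeech} (hg : IsLin g) (hh : IsLin h) : IsLin (g * h) := by
  obtain ⟨F, hF, hF'⟩ := hg
  obtain ⟨K, hK, hK'⟩ := hh
  refine ⟨K.trans F, fun x => ?_, fun x y => ?_⟩
  · rw [Equiv.Perm.mul_apply, hF, hK]; rfl
  · rw [LinearEquiv.trans_apply, LinearEquiv.trans_apply, hF', hK']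

theorem perm_apply_inv (g : Equiv.Perm icoLeech) (x : icoLeech) : g (g⁻¹ x) = x :=
  g.apply_symm_apply x

theorem perm_inv_apply (g : Equiv.Perm icoLeech) (x : icoLeech) : g⁻¹ (g x) = x :=
  g.symm_apply_apply x

theorem isLin_inv {g : Equiv.Perm icoLeech} (hg : IsLin g) : IsLin g⁻¹ := by
  obtain ⟨F, hF, hF'⟩ := hg
  refine ⟨F.symm, fun x => ?_, fun x y => ?_⟩
  · have := hF (g⁻¹ x)
    rw [perm_apply_inv] at this
    rw [this, LinearEquiv.symm_apply_apply]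
  · rw [← hF', LinearEquiv.apply_symm_apply, LinearEquiv.apply_symm_apply]

theorem isLin_of_mem {g : Equiv.Perm icoLeech} (hg : g ∈ twoJ2) : IsLin g := by
  unfold twoJ2 at hg
  induction hg using Subgroup.closure_induction with
  | mem g hg =>
    obtain ⟨r, hr, rfl⟩ := (isIcoReflection_iff g).mp hg
    exact ⟨reflLin r hr, fun _ => rfl, qip_qrefl_qrefl hr⟩
  | one => exact isLin_one
  | mul g h _ _ hg hh => exact isLin_mul hg hh
  | inv g _ hg => exact isLin_inv hg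

/-- conjugating a reflection gives the reflection in the image vector -/
theorem conj_reflPerm {g : Equiv.Perm icoLeech} (hg : IsLin g) (r : icoLeech)
    (hr : qip (r : Fin 3 → ℍ[ℝ]) r = 4) :
    ∃ hr' : qip ((g r : icoLeech) : Fin 3 → ℍ[ℝ]) (g r : icoLeech) = 4,
      g * reflPerm r hr * g⁻¹ = reflPerm (g r) hr' := by
  obtain ⟨F, hF, hF'⟩ := hg
  have hr' : qip ((g r : icoLeech) : Fin 3 → ℍ[ℝ]) (g r : icoLeech) = 4 := by
    rw [hF, hF', hr]
  refine ⟨hr', ?_⟩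
  ext1 x
  apply Subtype.ext
  rw [Equiv.Perm.mul_apply, Equiv.Perm.mul_apply, hF, reflPerm_apply, reflPerm_apply, qrefl_eq,
    qrefl_eq, map_sub, map_smul, ← hF, ← hF, perm_apply_inv]
  congr 3
  have h1 := hF (g⁻¹ x)
  rw [perm_apply_inv] at h1
  rw [h1, hF r, hF']

/-- the reflection in a unit multiple -/
theorem reflPerm_eq_of_smul {q : ℍ[ℝ]} (hq : star q * q = 1) {r s : icoLeech}
    (hr : qip (r : Fin 3 → ℍ[ℝ]) r = 4) (hs : qip (s : Fin 3 → ℍ[ℝ]) s = 4)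
    (h : (s : Fin 3 → ℍ[ℝ]) = q • (r : Fin 3 → ℍ[ℝ])) : reflPerm s hs = reflPerm r hr := by
  ext1 x
  apply Subtype.ext
  rw [reflPerm_apply, reflPerm_apply, h, qrefl_unit_smul hq]

/-- conversely, equal reflections have proportional vectors -/
theorem smul_of_reflPerm_eq {r s : icoLeech}
    (hr : qip (r : Fin 3 → ℍ[ℝ]) r = 4) (hs : qip (s : Fin 3 → ℍ[ℝ]) s = 4)
    (h : reflPerm s hs = reflPerm r hr) :
    ∃ q : ℍ[ℝ], star q * q = 1 ∧ (s : Fin 3 → ℍ[ℝ]) = q • (r : Fin 3 → ℍ[ℝ]) := by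
  have h1 : qrefl (s : Fin 3 → ℍ[ℝ]) s = qrefl (r : Fin 3 → ℍ[ℝ]) s := by
    have := congrArg (fun f : Equiv.Perm icoLeech => ((f s : icoLeech) : Fin 3 → ℍ[ℝ])) h
    simpa only [reflPerm_apply] using this
  rw [qrefl_self hs, qrefl_eq] at h1
  have h2 : (s : Fin 3 → ℍ[ℝ]) + s = ((1 / 2 : ℝ) • qip (s : Fin 3 → ℍ[ℝ]) r) •
      (r : Fin 3 → ℍ[ℝ]) := by
    have : (s : Fin 3 → ℍ[ℝ]) + s = (s : Fin 3 → ℍ[ℝ]) - (-s) := by abel
    rw [this, h1]; abel
  have h3 : (s : Fin 3 → ℍ[ℝ]) = ((1 / 4 : ℝ) • qip (s : Fin 3 → ℍ[ℝ]) r) •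
      (r : Fin 3 → ℍ[ℝ]) := by
    have h4 : (s : Fin 3 → ℍ[ℝ]) = (1 / 2 : ℝ) • ((s : Fin 3 → ℍ[ℝ]) + s) := by
      rw [smul_add, ← add_smul]; norm_num
    calc (s : Fin 3 → ℍ[ℝ]) = (1 / 2 : ℝ) • ((s : Fin 3 → ℍ[ℝ]) + s) := h4
      _ = (1 / 2 : ℝ) • (((1 / 2 : ℝ) • qip (s : Fin 3 → ℍ[ℝ]) r) • (r : Fin 3 → ℍ[ℝ])) := by
        rw [h2]
      _ = ((1 / 4 : ℝ) • qip (s : Fin 3 → ℍ[ℝ]) r) • (r : Fin 3 → ℍ[ℝ]) := by
        rw [← smul_assoc, smul_smul]; norm_num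
  refine ⟨_, ?_, h3⟩
  set q := (1 / 4 : ℝ) • qip (s : Fin 3 → ℍ[ℝ]) r with hq
  have h5 : qip (s : Fin 3 → ℍ[ℝ]) s = q * 4 * star q := by
    conv_lhs => rw [h3]
    rw [qip_smul_left, qip_smul_right, hr, mul_assoc]
  have h4' : (4 : ℍ[ℝ]) = ((4 : ℝ) : ℍ[ℝ]) := rfl
  rw [hs, h4', Quaternion.mul_coe_eq_smul, smul_mul_assoc, Quaternion.self_mul_star] at h5
  have h6 : Quaternion.normSq q = 1 := by
    have := congrArg QuaternionAlgebra.re h5
    simp only [Quaternion.re_smul, Quaternion.re_coe, smul_eq_mul] at this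
    linarith
  rw [Quaternion.star_mul_self, h6]
  rfl

end Cfsg.Agent.Icosian.Lattice
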