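import Cfsg.Agent.Icosian.Tables
import Cfsg.Agent.Icosian.Enum

/-!
Classification of the minimal vectors of the icosian Leech lattice.
-/

set_option autoImplicit false

open Quaternion
open Cfsg.Spor
open Cfsg.Agent.Icosian.Basic
open Cfsg.Agent.Icosian.Basic.QZ
open Cfsg.Agent.Icosian.Lattice
open Cfsg.Agent.Icosian.Model
open Cfsg.Agent.Icosian.Data
open Cfsg.Agent.Icosian.Tables
open Cfsg.Agent.Icosian.Enum

namespace Cfsg.Agent.Icosian.Lines

/-! ### Norms -/

theorem nA_nonneg (X : QZ) : 0 ≤ QZ.nA X := by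
  unfold QZ.nA
  have q0 := mul_self_nonneg X.a0
  have q1 := mul_self_nonneg X.b0
  have q2 := mul_self_nonneg X.a1
  have q3 := mul_self_nonneg X.b1
  have q4 := mul_self_nonneg X.a2
  have q5 := mul_self_nonneg X.b2
  have q6 := mul_self_nonneg X.a3
  have q7 := mul_self_nonneg X.b3
  omega

theorem eq_zero_of_nA {X : QZ} (h : QZ.nA X = 0) : X = QZero := by
  unfold QZ.nA at h
  have q0 := mul_self_nonneg X.a0
  have q1 := mul_self_nonneg X.b0
  have q2 := mul_self_nonneg X.a1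
  have q3 := mul_self_nonneg X.b1
  have q4 := mul_self_nonneg X.a2
  have q5 := mul_self_nonneg X.b2
  have q6 := mul_self_nonneg X.a3
  have q7 := mul_self_nonneg X.b3
  obtain ⟨a0, b0, a1, b1, a2, b2, a3, b3⟩ := X
  simp only [QZero, QZ.mk.injEq]
  simp only at *
  refine ⟨?_, ?_, ?_, ?_, ?_, ?_, ?_, ?_⟩ <;> apply mul_self_eq_zero.mp <;> omega

theorem mul_conj_eq (X : QZ) : QZ.mul X (QZ.conj X) = ⟨QZ.nA X, QZ.nB X, 0, 0, 0, 0, 0, 0⟩ := by
  obtain ⟨a0, b0, a1, b1, a2, b2, a3, b3⟩ := X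
  simp only [QZ.mul, QZ.conj, QZ.nA, QZ.nB, QZ.mk.injEq]
  refine ⟨?_, ?_, ?_, ?_, ?_, ?_, ?_, ?_⟩ <;> ring

/-- the norm of an icosian lies in `ℤ[τ]` -/
theorem norm_dvd {X : QZ} (hX : par X = true) : ∃ a b : ℤ, QZ.nA X = 4 * a ∧ QZ.nB X = 4 * b := by
  obtain ⟨C, hC, hC'⟩ := par_mul hX (par_conj hX)
  rw [mul_conj_eq] at hC
  rw [par_iff] at hC'
  simp only [QZ.smul, QZ.mk.injEq] at hC
  obtain ⟨h0, h1, h2, h3, h4, h5, h6, h7⟩ := hC
  refine ⟨C.a0 / 2, C.b0 / 2, ?_, ?_⟩ <;> omega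

theorem nAB_of_mul_icoH {X Y : QZ} (h : toH X = toH Y * icoH) :
    QZ.nA X = 2 * QZ.nA Y ∧ QZ.nB X = 2 * QZ.nB Y := by
  have h1 : Quaternion.normSq (toH X) = Quaternion.normSq (toH Y) * 2 := by
    rw [h, map_mul]
    congr 1
    rw [← toH_QH, toH_norm]
    have : QZ.nA QH = 8 := by decide
    have h' : QZ.nB QH = 0 := by decide
    rw [this, h']
    norm_num
  rw [toH_norm, toH_norm] at h1
  have := tau_lin (a := QZ.nA X) (b := QZ.nB X) (c := 2 * QZ.nA Y) (d := 2 * QZ.nB Y) (by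
    push_cast; linarith)
  exact this

theorem normSq_of {X : QZ} (hA : QZ.nA X = 4) (hB : QZ.nB X = 0) :
    Quaternion.normSq (toH X) = 1 := by
  rw [toH_norm, hA, hB]; norm_num

theorem nAB_of_normSq_one {X : QZ} (h : Quaternion.normSq (toH X) = 1) :
    QZ.nA X = 4 ∧ QZ.nB X = 0 := by
  rw [toH_norm] at h
  exact tau_lin (a := QZ.nA X) (b := QZ.nB X) (c := 4) (d := 0) (by push_cast; linarith)

theorem enum1_spec {X : QZ} (hX : par X = true) (hA : QZ.nA X = 4) :
    ((QZ.nB X = 0 ∧ ∃ i, i < 120 ∧ unitQ i = X) ∨ QZ.nB X = 4) ∧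
    (chk4 (QZ.sub X QOne) (QZ.conj QH) = true → memQ X l1N = true) := by
  have h := enum_spec (by norm_num) enum1 X hA
  simp only [P1, hX, Bool.not_true, Bool.false_or, Bool.and_eq_true, Bool.or_eq_true] at h
  obtain ⟨h1, h2⟩ := h
  constructor
  · by_cases h0 : QZ.nB X = 0
    · left
      refine ⟨h0, memQ_units ?_⟩
      simpa [h0] using h1
    · right
      simpa [h0] using h1
  · intro h3
    rcases h2 with h2 | h2
    · rw [h3] at h2; simp at h2
    · exact h2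

/-- the icosians of norm 1 are the 120 units -/
theorem unit_iff (q : ℍ[ℝ]) :
    (q ∈ icosians ∧ Quaternion.normSq q = 1) ↔ ∃ i, i < 120 ∧ q = toH (unitQ i) := by
  constructor
  · rintro ⟨hq, hn⟩
    obtain ⟨X, hX, rfl⟩ := par_of_mem hq
    obtain ⟨hA, hB⟩ := nAB_of_normSq_one hn
    obtain ⟨h1, -⟩ := enum1_spec hX hA
    rcases h1 with ⟨-, i, hi, h⟩ | h
    · exact ⟨i, hi, by rw [h]⟩
    · rw [hB] at h; norm_num at h
  · rintro ⟨i, hi, rfl⟩
    exact ⟨unit_mem hi, unit_norm hi⟩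

/-! ### Good vectors -/

/-- unit multiples of the representatives -/
def Good (x : Fin 3 → ℍ[ℝ]) : Prop :=
  ∃ u, u < 120 ∧ ∃ i, i < 315 ∧ x = toH (unitQ u) • toV (rep i)

theorem good_smul {w : ℍ[ℝ]} (hw : w ∈ icosians) (hn : Quaternion.normSq w = 1)
    {x : Fin 3 → ℍ[ℝ]} (hx : Good x) : Good (w • x) := by
  obtain ⟨u, hu, i, hi, rfl⟩ := hx
  obtain ⟨u', hu', h⟩ := (unit_iff (w * toH (unitQ u))).mp
    ⟨icosians.mul_mem hw (unit_mem hu), by rw [map_mul, hn, unit_norm hu, one_mul]⟩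
  exact ⟨u', hu', i, hi, by rw [smul_smul, h]⟩

theorem star_smul_self {w : ℍ[ℝ]} (hn : Quaternion.normSq w = 1) (x : Fin 3 → ℍ[ℝ]) :
    w • star w • x = x := by
  rw [smul_smul, Quaternion.self_mul_star, hn]
  exact one_smul _ x

theorem star_smul_self' {w : ℍ[ℝ]} (hn : Quaternion.normSq w = 1) (x : Fin 3 → ℍ[ℝ]) :
    star w • w • x = x := by
  rw [smul_smul, Quaternion.star_mul_self, hn]
  exact one_smul _ x

theorem good_of_star_smul {w : ℍ[ℝ]} (hw : w ∈ icosians) (hn : Quaternion.normSq w = 1)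
    {x : Fin 3 → ℍ[ℝ]} (hx : Good (star w • x)) : Good x := by
  have := good_smul hw hn hx
  rwa [star_smul_self hn] at this

theorem good_rep {i : ℕ} (hi : i < 315) : Good (toV (rep i)) := by
  obtain ⟨u, hu, h⟩ := (unit_iff 1).mp ⟨icosians.one_mem, by simp⟩
  exact ⟨u, hu, i, hi, by rw [← h, one_smul]⟩

theorem good_refl (k : Fin 4) {x : Fin 3 → ℍ[ℝ]} (hx : Good x) :
    Good (qrefl (toV (rep (gidx k))) x) := by
  obtain ⟨u, hu, i, hi, rfl⟩ := hx
  rw [qrefl_smul]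
  obtain ⟨h1, h2, h3⟩ := tab_spec k hi
  rw [h3]
  exact good_smul (unit_mem hu) (unit_norm hu) (good_smul (unit_mem h2) (unit_norm h2)
    (good_rep h1))

theorem good_swap01 {v : V3} (hv : Good (toV (swap01 v))) : Good (toV v) := by
  have := good_refl 0 hv
  have h : qrefl (toV (rep (gidx 0))) (toV (swap01 v)) = toV v := qrefl_swap01 (swap01 v)
  rwa [h] at this

theorem good_swap12 {v : V3} (hv : Good (toV (swap12 v))) : Good (toV v) := by
  have := good_refl 1 hv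
  have h : qrefl (toV (rep (gidx 1))) (toV (swap12 v)) = toV v := qrefl_swap12 (swap12 v)
  rwa [h] at this

theorem inL_swap01 {v : V3} (hv : inL v = true) : inL (swap01 v) = true := by
  rw [← toV_mem_iff] at *
  have h : qrefl (toV (rep 19)) (toV v) = toV (swap01 v) := qrefl_swap01 v
  rw [← h]
  exact qrefl_mem hv (rep_mem (by norm_num))

theorem inL_swap12 {v : V3} (hv : inL v = true) : inL (swap12 v) = true := by
  rw [← toV_mem_iff] at *
  have h : qrefl (toV (rep 3)) (toV v) = toV (swap12 v) := qrefl_swap12 v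
  rw [← h]
  exact qrefl_mem hv (rep_mem (by norm_num))

/-- normalised case: last coordinate `1` -/
theorem good_last_one {X Y : QZ} (hL : inL ⟨X, Y, QOne⟩ = true) (hX : QZ.nA X = 8)
    (hY : QZ.nA Y = 4) (hB : QZ.nB X + QZ.nB Y = 0) : Good (toV ⟨X, Y, QOne⟩) := by
  have hL' := (toV_mem_iff _).mpr hL
  obtain ⟨h1, h2, h3, h4, h5, h6⟩ := (inL_iff _).mp hL
  simp only at h1 h2 h3 h4 h5 h6
  have hY' := (enum1_spec h2 hY).2 h5
  have hX1 : chk4 (QZ.sub X QOne) (QZ.conj QH) = true := by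
    rw [← toH_mem_leftIdeal, toH_sub]
    have e1 := hL'.2.1
    have e2 := hL'.2.2.1
    have := leftIdeal_add e1 e2
    rw [toV_zero, toV_one, toV_two] at this
    simpa using this
  have hP := enum_spec (by norm_num) enum3 X hX
  simp only [P3, h1, hX1, Bool.not_true, Bool.false_or] at hP
  rw [List.all_eq_true] at hP
  rw [memQ, Bool.and_eq_true, QZ.beq_iff] at hY'
  obtain ⟨i, hi, hi'⟩ := memN_spec hY'.1
  have hmem : pk Y ∈ l1N := by
    rw [← hi', List.getD_eq_getElem _ _ hi]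
    exact List.getElem_mem hi
  have hQ := hP _ hmem
  rw [hY'.2] at hQ
  simp only [P2, hB, h6, decide_true, Bool.not_true, Bool.false_or] at hQ
  obtain ⟨j, hj, hj'⟩ := memV_reps hQ
  rw [← hj']
  exact good_rep hj

/-- normalised case: last coordinate a unit -/
theorem good_last_unit {v : V3} (hL : inL v = true) (hX : QZ.nA v.x = 8)
    (hY : QZ.nA v.y = 4) (hZ : QZ.nA v.z = 4) (hZB : QZ.nB v.z = 0)
    (hB : QZ.nB v.x + QZ.nB v.y = 0) : Good (toV v) := by
  have hm := (toV_mem_iff _).mpr hL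
  have hz : toH v.z ∈ icosians := hm.1 2
  have hn : Quaternion.normSq (toH v.z) = 1 := normSq_of hZ hZB
  apply good_of_star_smul hz hn
  obtain ⟨w, hw, hw'⟩ := exists_of_mem (leech_smul (star_mem hz) hm)
  obtain ⟨X, Y, Z⟩ := w
  have hZ' : Z = QOne := by
    apply toH_injective
    have := congrFun hw' 2
    rw [toV_two, Pi.smul_apply, toV_two, smul_eq_mul, Quaternion.star_mul_self, hn] at this
    rw [toH_QOne, this]
    rfl
  subst hZ'
  have hnorm : ∀ (A B : QZ), toH A = star (toH v.z) * toH B → QZ.nA A = QZ.nA B ∧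
      QZ.nB A = QZ.nB B := by
    intro A B hAB
    have h1 : Quaternion.normSq (toH A) = Quaternion.normSq (toH B) := by
      rw [hAB, map_mul, Quaternion.normSq_star, hn, one_mul]
    rw [toH_norm, toH_norm] at h1
    exact tau_lin (by linarith)
  have hx := hnorm X v.x (by
    have := congrFun hw' 0
    rwa [toV_zero, Pi.smul_apply, toV_zero, smul_eq_mul] at this)
  have hy := hnorm Y v.y (by
    have := congrFun hw' 1
    rwa [toV_one, Pi.smul_apply, toV_one, smul_eq_mul] at this)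
  rw [← hw']
  exact good_last_one hw (hx.1.trans hX) (hy.1.trans hY) (by rw [hx.2, hy.2, hB])

theorem good_400 {v : V3} (hL : inL v = true) (hX : QZ.nA v.x = 16) (hXB : QZ.nB v.x = 0)
    (hY : v.y = QZero) (hZ : v.z = QZero) : Good (toV v) := by
  have hm := (toV_mem_iff _).mpr hL
  obtain ⟨hm0, hm1, hm2, hm3⟩ := hm
  rw [toV_zero, toV_one, hY, toH_QZero, sub_zero] at hm1
  rw [toV_zero, toV_one, toV_two, hY, hZ, toH_QZero, add_zero, add_zero] at hm3
  obtain ⟨a, ha, hxa⟩ := (mem_leftIdeal_icoH _).mp hm1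
  obtain ⟨b, hb, hxb⟩ := (mem_leftIdeal_star_icoH _).mp hm3
  have hx0 : toH v.x ∈ icosians := hm0 0
  set c := a + b + (tau : ℍ[ℝ]) * toH v.x with hc
  have hcm : c ∈ icosians := icosians.add_mem (icosians.add_mem ha hb)
    (icosians.mul_mem tau_mem hx0)
  have hxc : toH v.x = 2 * c := by
    have h1 : toH v.x * (icoH + star icoH) = 2 * a + 2 * b := by
      rw [mul_add, hxa, hxb]; abel
    rw [icoH_add_star] at h1
    have h2 : toH v.x * (1 - 2 * (tau : ℍ[ℝ])) = toH v.x - 2 * ((tau : ℍ[ℝ]) * toH v.x) := by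
      rw [mul_sub, mul_one, Quaternion.coe_commutes tau (toH v.x), two_mul, two_mul, mul_add]
    rw [h2] at h1
    have h3 : toH v.x = 2 * a + 2 * b + 2 * ((tau : ℍ[ℝ]) * toH v.x) := by
      rw [← h1]; abel
    rw [hc, mul_add, mul_add]
    exact h3
  have h2' : (2 : ℍ[ℝ]) = ((2 : ℝ) : ℍ[ℝ]) := rfl
  have hnc : Quaternion.normSq c = 1 := by
    have h1 : Quaternion.normSq (toH v.x) = 4 := by
      rw [toH_norm, hX, hXB]; norm_num
    rw [hxc, map_mul, h2', Quaternion.normSq_coe] at h1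
    linarith
  have h0 : rep 0 = ⟨QZ.smul 2 QOne, QZero, QZero⟩ := by decide +kernel
  have hv : toV v = c • toV (rep 0) := by
    apply ext3
    · rw [Pi.smul_apply, toV_zero, h0, toV_zero, hxc, toH_smul, toH_QOne, smul_eq_mul,
        mul_smul_comm, mul_one, two_mul]
      push_cast
      rw [two_smul]
    · rw [Pi.smul_apply, toV_one, h0, toV_one, hY, toH_QZero, smul_zero]
    · rw [Pi.smul_apply, toV_two, h0, toV_two, hZ, toH_QZero, smul_zero]
  rw [hv]
  exact good_smul hcm hnc (good_rep (by norm_num))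

theorem good_220 {v : V3} (hL : inL v = true) (hX : QZ.nA v.x = 8) (hY : QZ.nA v.y = 8)
    (hZ : v.z = QZero) (hB : QZ.nB v.x + QZ.nB v.y = 0) : Good (toV v) := by
  have hm := (toV_mem_iff _).mpr hL
  have hm' := hm
  obtain ⟨hm0, hm1, hm2, hm3⟩ := hm
  rw [toV_one, toV_two, hZ, toH_QZero, sub_zero] at hm2
  have hm1' : toH v.x ∈ leftIdeal icoH := by
    have := leftIdeal_add hm1 hm2
    rwa [toV_zero, toV_one, sub_add_cancel] at this
  obtain ⟨a, ha, hxa⟩ := hm1'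
  obtain ⟨b, hb, hxb⟩ := hm2
  obtain ⟨A, hA, rfl⟩ := par_of_mem ha
  obtain ⟨B, hBp, rfl⟩ := par_of_mem hb
  obtain ⟨a1, a2⟩ := nAB_of_mul_icoH hxa
  obtain ⟨b1, b2⟩ := nAB_of_mul_icoH hxb
  have hA4 : QZ.nA A = 4 := by omega
  have hB4 : QZ.nA B = 4 := by omega
  have hAB := (enum1_spec hA hA4).1
  have hBB := (enum1_spec hBp hB4).1
  have hAB0 : QZ.nB A = 0 := by
    rcases hAB with ⟨h, -⟩ | h <;> rcases hBB with ⟨h', -⟩ | h' <;> omega
  have hBB0 : QZ.nB B = 0 := by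
    rcases hAB with ⟨h, -⟩ | h <;> rcases hBB with ⟨h', -⟩ | h' <;> omega
  have hnA := normSq_of hA4 hAB0
  have hnB := normSq_of hB4 hBB0
  apply good_of_star_smul ha hnA
  obtain ⟨i, hi, hi'⟩ := (unit_iff (star (toH A) * toH B)).mp
    ⟨icosians.mul_mem (star_mem ha) hb, by
      rw [map_mul, Quaternion.normSq_star, hnA, hnB, one_mul]⟩
  have hP := allBelow_spec enum4 i hi
  simp only [P4, Bool.and_eq_true, QZ.beq_iff] at hP
  obtain ⟨hP1, hP2⟩ := hP
  have hv : star (toH A) • toV v = toV ⟨QH, halve (QZ.mul (unitQ i) QH), QZero⟩ := by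
    apply ext3
    · rw [Pi.smul_apply, toV_zero, toV_zero, hxa, smul_eq_mul, ← mul_assoc,
        Quaternion.star_mul_self, hnA, toH_QH]
      exact one_mul _
    · rw [Pi.smul_apply, toV_one, toV_one, hxb, smul_eq_mul, ← mul_assoc, hi',
        ← toH_mul_eq hP1.symm, toH_QH]
    · rw [Pi.smul_apply, toV_two, toV_two, hZ, toH_QZero, smul_zero]
  have hin : inL ⟨QH, halve (QZ.mul (unitQ i) QH), QZero⟩ = true := by
    rw [← toV_mem_iff, ← hv]
    exact leech_smul (star_mem ha) hm'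
  rw [hin, Bool.not_true, Bool.false_or] at hP2
  obtain ⟨j, hj, hj'⟩ := memV_reps hP2
  rw [hv, ← hj']
  exact good_rep hj

theorem good_sorted {v : V3} (hL : inL v = true) (hA : V3.nA v = 16) (hB : V3.nB v = 0)
    (h1 : QZ.nA v.z ≤ QZ.nA v.y) (h2 : QZ.nA v.y ≤ QZ.nA v.x) : Good (toV v) := by
  obtain ⟨p1, p2, p3, -, -, -⟩ := (inL_iff _).mp hL
  obtain ⟨a, a', ha, ha'⟩ := norm_dvd p1
  obtain ⟨b, b', hb, hb'⟩ := norm_dvd p2
  obtain ⟨c, c', hc, hc'⟩ := norm_dvd p3
  have hx0 := nA_nonneg v.x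
  have hy0 := nA_nonneg v.y
  have hz0 := nA_nonneg v.z
  unfold V3.nA at hA
  unfold V3.nB at hB
  have hcases : (a = 4 ∧ b = 0 ∧ c = 0) ∨ (a = 3 ∧ b = 1 ∧ c = 0) ∨ (a = 2 ∧ b = 2 ∧ c = 0) ∨
      (a = 2 ∧ b = 1 ∧ c = 1) := by omega
  rcases hcases with ⟨rfl, rfl, rfl⟩ | ⟨rfl, rfl, rfl⟩ | ⟨rfl, rfl, rfl⟩ | ⟨rfl, rfl, rfl⟩
  · have hy := eq_zero_of_nA (X := v.y) (by omega)
    have hz := eq_zero_of_nA (X := v.z) (by omega)
    have hyB : QZ.nB v.y = 0 := by rw [hy]; decide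
    have hzB : QZ.nB v.z = 0 := by rw [hz]; decide
    exact good_400 hL (by omega) (by omega) hy hz
  · exfalso
    have hz := eq_zero_of_nA (X := v.z) (by omega)
    have hm := (toV_mem_iff _).mpr hL
    obtain ⟨-, -, hm2, -⟩ := hm
    rw [toV_one, toV_two, hz, toH_QZero, sub_zero] at hm2
    obtain ⟨b, hb3, hxb⟩ := hm2
    obtain ⟨B, hBp, rfl⟩ := par_of_mem hb3
    obtain ⟨b1, b2⟩ := nAB_of_mul_icoH hxb
    obtain ⟨d, d', hd, hd'⟩ := norm_dvd hBp
    omega
  · have hz := eq_zero_of_nA (X := v.z) (by omega)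
    have hzB : QZ.nB v.z = 0 := by rw [hz]; decide
    exact good_220 hL (by omega) (by omega) hz (by omega)
  · have hyc := (enum1_spec p2 (by omega)).1
    have hzc := (enum1_spec p3 (by omega)).1
    have hxpos : 0 ≤ Quaternion.normSq (toH v.x) := Quaternion.normSq_nonneg
    rw [toH_norm, ha, ha'] at hxpos
    have hgt : (-8 : ℤ) < QZ.nB v.x := by
      by_contra hcon
      have h8 : QZ.nB v.x ≤ -8 := by omega
      rw [ha'] at h8
      have h8' : ((4 * a' : ℤ) : ℝ) ≤ -8 := by exact_mod_cast h8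
      have ht1 : (1 : ℝ) < tau := Real.one_lt_goldenRatio
      push_cast at hxpos h8'
      nlinarith
    rcases hzc with ⟨hz0, -⟩ | hz4
    · exact good_last_unit hL (by omega) (by omega) (by omega) hz0 (by omega)
    · rcases hyc with ⟨hy0, -⟩ | hy4
      · apply good_swap12
        exact good_last_unit (v := swap12 v) (inL_swap12 hL) (by change QZ.nA v.x = 8; omega)
          (by change QZ.nA v.z = 4; omega) (by change QZ.nA v.y = 4; omega) hy0
          (by change QZ.nB v.x + QZ.nB v.z = 0; omega)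
      · exfalso; omega

theorem good_all {v : V3} (hL : inL v = true) (hA : V3.nA v = 16) (hB : V3.nB v = 0) :
    Good (toV v) := by
  have key : ∀ w : V3, inL w = true → V3.nA w = 16 → V3.nB w = 0 → QZ.nA w.z ≤ QZ.nA w.y →
      QZ.nA w.z ≤ QZ.nA w.x → Good (toV w) := by
    intro w hw hwA hwB h1 h2
    by_cases h : QZ.nA w.y ≤ QZ.nA w.x
    · exact good_sorted hw hwA hwB h1 h
    · apply good_swap01
      refine good_sorted (inL_swap01 hw) ?_ ?_ ?_ ?_
      · unfold V3.nA at *; change QZ.nA w.y + QZ.nA w.x + QZ.nA w.z = 16; omega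
      · unfold V3.nB at *; change QZ.nB w.y + QZ.nB w.x + QZ.nB w.z = 0; omega
      · exact h2
      · change QZ.nA w.x ≤ QZ.nA w.y; omega
  by_cases h1 : QZ.nA v.z ≤ QZ.nA v.y ∧ QZ.nA v.z ≤ QZ.nA v.x
  · exact key v hL hA hB h1.1 h1.2
  · by_cases h2 : QZ.nA v.y ≤ QZ.nA v.z ∧ QZ.nA v.y ≤ QZ.nA v.x
    · apply good_swap12
      refine key (swap12 v) (inL_swap12 hL) ?_ ?_ ?_ ?_
      · unfold V3.nA at *; change QZ.nA v.x + QZ.nA v.z + QZ.nA v.y = 16; omega
      · unfold V3.nB at *; change QZ.nB v.x + QZ.nB v.z + QZ.nB v.y = 0; omega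
      · exact h2.1
      · exact h2.2
    · apply good_swap01
      apply good_swap12
      refine key (swap12 (swap01 v)) (inL_swap12 (inL_swap01 hL)) ?_ ?_ ?_ ?_
      · unfold V3.nA at *; change QZ.nA v.y + QZ.nA v.z + QZ.nA v.x = 16; omega
      · unfold V3.nB at *; change QZ.nB v.y + QZ.nB v.z + QZ.nB v.x = 0; omega
      · change QZ.nA v.x ≤ QZ.nA v.z; omega
      · change QZ.nA v.x ≤ QZ.nA v.y; omega

/-- every minimal vector is a unit times one of the 315 representatives -/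
theorem good_of_min {x : Fin 3 → ℍ[ℝ]} (hx : x ∈ icoLeech) (hn : qip x x = 4) : Good x := by
  obtain ⟨v, hv, rfl⟩ := exists_of_mem hx
  obtain ⟨h1, h2⟩ := (qip_self_toV v).mp hn
  exact good_all hv h1 h2

end Cfsg.Agent.Icosian.Lines
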