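import Cfsg.Agent.Icosian.Lattice

/-!
The icosian Leech lattice: integer model of triples.
-/

set_option autoImplicit false

open Quaternion
open Cfsg.Spor
open Cfsg.Agent.Icosian.Basic
open Cfsg.Agent.Icosian.Basic.QZ
open Cfsg.Agent.Icosian.Lattice

namespace Cfsg.Agent.Icosian.Model

/-- a triple of icosians in doubled coordinates -/
structure V3 where
  x : QZ
  y : QZ
  z : QZ

namespace V3

/-- boolean equality -/
def beq (v w : V3) : Bool := QZ.beq v.x w.x && QZ.beq v.y w.y && QZ.beq v.z w.z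

theorem beq_iff (v w : V3) : beq v w = true ↔ v = w := by
  cases v; cases w
  simp only [beq, Bool.and_eq_true, QZ.beq_iff, V3.mk.injEq]
  tauto

instance decEqV3 : DecidableEq V3 := fun v w => decidable_of_iff (beq v w = true) (beq_iff v w)

/-- sum -/
def add (v w : V3) : V3 := ⟨QZ.add v.x w.x, QZ.add v.y w.y, QZ.add v.z w.z⟩
/-- difference -/
def sub (v w : V3) : V3 := ⟨QZ.sub v.x w.x, QZ.sub v.y w.y, QZ.sub v.z w.z⟩
/-- integer multiple -/
def smul (n : ℤ) (v : V3) : V3 := ⟨QZ.smul n v.x, QZ.smul n v.y, QZ.smul n v.z⟩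
/-- left multiplication by an icosian, without halving -/
def mulV (u : QZ) (v : V3) : V3 := ⟨QZ.mul u v.x, QZ.mul u v.y, QZ.mul u v.z⟩
/-- Hermitian product, doubled coordinates of twice the product -/
def ip (v w : V3) : QZ :=
  QZ.add (QZ.add (QZ.mul v.x (QZ.conj w.x)) (QZ.mul v.y (QZ.conj w.y))) (QZ.mul v.z (QZ.conj w.z))
/-- rational part of four times the norm -/
def nA (v : V3) : ℤ := QZ.nA v.x + QZ.nA v.y + QZ.nA v.z
/-- `τ`-part of four times the norm -/
def nB (v : V3) : ℤ := QZ.nB v.x + QZ.nB v.y + QZ.nB v.z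

end V3

open V3

/-- the vector with doubled coordinates `v` -/
noncomputable def toV (v : V3) : Fin 3 → ℍ[ℝ] := ![toH v.x, toH v.y, toH v.z]

theorem toV_zero (v : V3) : toV v 0 = toH v.x := rfl
theorem toV_one (v : V3) : toV v 1 = toH v.y := rfl
theorem toV_two (v : V3) : toV v 2 = toH v.z := rfl

theorem ext3 {x y : Fin 3 → ℍ[ℝ]} (h0 : x 0 = y 0) (h1 : x 1 = y 1) (h2 : x 2 = y 2) : x = y := by
  funext t
  fin_cases t
  · exact h0
  · exact h1
  · exact h2

theorem toV_injective : Function.Injective toV := by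
  intro v w h
  have h0 := congrFun h 0
  have h1 := congrFun h 1
  have h2 := congrFun h 2
  rw [toV_zero, toV_zero] at h0
  rw [toV_one, toV_one] at h1
  rw [toV_two, toV_two] at h2
  cases v; cases w
  simp only [V3.mk.injEq]
  exact ⟨toH_injective h0, toH_injective h1, toH_injective h2⟩

theorem toV_add (v w : V3) : toV (V3.add v w) = toV v + toV w := by
  apply ext3 <;> simp only [Pi.add_apply, toV_zero, toV_one, toV_two, V3.add, toH_add]

theorem toV_sub (v w : V3) : toV (V3.sub v w) = toV v - toV w := by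
  apply ext3 <;> simp only [Pi.sub_apply, toV_zero, toV_one, toV_two, V3.sub, toH_sub]

theorem toV_smul (n : ℤ) (v : V3) : toV (V3.smul n v) = (n : ℝ) • toV v := by
  apply ext3 <;> simp only [Pi.smul_apply, toV_zero, toV_one, toV_two, V3.smul, toH_smul]

theorem toV_mulV (u : QZ) (v : V3) : toV (mulV u v) = (2 : ℝ) • (toH u • toV v) := by
  apply ext3 <;>
    simp only [Pi.smul_apply, toV_zero, toV_one, toV_two, mulV, toH_mul, smul_eq_mul]

theorem toH_ip (v w : V3) : toH (ip v w) = (2 : ℝ) • qip (toV v) (toV w) := by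
  rw [qip_def, ip, toH_add, toH_add, toH_mul, toH_mul, toH_mul, toH_conj, toH_conj, toH_conj]
  simp only [toV_zero, toV_one, toV_two, smul_add]

/-- membership in `Λ`, computable -/
def inL (v : V3) : Bool :=
  par v.x && par v.y && par v.z && chk4 (QZ.sub v.x v.y) (conj QH) &&
  chk4 (QZ.sub v.y v.z) (conj QH) && chk4 (QZ.add (QZ.add v.x v.y) v.z) QH

theorem inL_iff (v : V3) : inL v = true ↔
    par v.x = true ∧ par v.y = true ∧ par v.z = true ∧ chk4 (QZ.sub v.x v.y) (conj QH) = true ∧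
    chk4 (QZ.sub v.y v.z) (conj QH) = true ∧ chk4 (QZ.add (QZ.add v.x v.y) v.z) QH = true := by
  simp only [inL, Bool.and_eq_true]
  tauto

theorem toV_mem_iff (v : V3) : toV v ∈ icoLeech ↔ inL v = true := by
  rw [inL_iff, ← toH_mem_iff, ← toH_mem_iff, ← toH_mem_iff, ← toH_mem_leftIdeal,
    ← toH_mem_leftIdeal, ← toH_mem_leftIdeal_star, toH_sub, toH_sub, toH_add, toH_add]
  constructor
  · rintro ⟨h0, h1, h2, h3⟩
    exact ⟨h0 0, h0 1, h0 2, h1, h2, h3⟩
  · rintro ⟨h0, h0', h0'', h1, h2, h3⟩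
    refine ⟨fun t => ?_, h1, h2, h3⟩
    fin_cases t
    · exact h0
    · exact h0'
    · exact h0''

theorem exists_of_mem {x : Fin 3 → ℍ[ℝ]} (hx : x ∈ icoLeech) : ∃ v, inL v = true ∧ toV v = x := by
  obtain ⟨X, _, h0⟩ := par_of_mem (hx.1 0)
  obtain ⟨Y, _, h1⟩ := par_of_mem (hx.1 1)
  obtain ⟨Z, _, h2⟩ := par_of_mem (hx.1 2)
  have : toV ⟨X, Y, Z⟩ = x := ext3 h0 h1 h2
  refine ⟨⟨X, Y, Z⟩, ?_, this⟩
  rw [← toV_mem_iff, this]
  exact hx

theorem qip_self_toV (v : V3) :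
    qip (toV v) (toV v) = 4 ↔ V3.nA v = 16 ∧ V3.nB v = 0 := by
  rw [qip_self, toV_zero, toV_one, toV_two, toH_norm, toH_norm, toH_norm]
  have h4 : (4 : ℍ[ℝ]) = ((4 : ℝ) : ℍ[ℝ]) := rfl
  rw [h4, Quaternion.coe_inj]
  constructor
  · intro h
    have := tau_lin (a := V3.nA v) (b := V3.nB v) (c := 16) (d := 0) (by
      simp only [V3.nA, V3.nB]; push_cast; linarith)
    exact this
  · rintro ⟨h1, h2⟩
    have h1' : ((QZ.nA v.x : ℤ) : ℝ) + (QZ.nA v.y : ℤ) + (QZ.nA v.z : ℤ) = 16 := by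
      exact_mod_cast h1
    have h2' : ((QZ.nB v.x : ℤ) : ℝ) + (QZ.nB v.y : ℤ) + (QZ.nB v.z : ℤ) = 0 := by
      exact_mod_cast h2
    linear_combination (1 / 4 : ℝ) * h1' + (1 / 4 * tau : ℝ) * h2'

/-- the equation `qrefl r x = u • s`, computable -/
def reflEq (r x : V3) (u : QZ) (s : V3) : Bool :=
  V3.beq (V3.sub (V3.smul 8 x) (mulV (ip x r) r)) (V3.smul 4 (mulV u s))

theorem reflEq_iff (r x : V3) (u : QZ) (s : V3) :
    reflEq r x u s = true ↔ qrefl (toV r) (toV x) = toH u • toV s := by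
  rw [reflEq, V3.beq_iff, ← toV_injective.eq_iff, toV_sub, toV_smul, toV_smul, toV_mulV, toV_mulV,
    toH_ip, qrefl_eq]
  have key : ((8 : ℤ) : ℝ) • toV x - (2 : ℝ) • ((2 : ℝ) • qip (toV x) (toV r)) • toV r
      = (8 : ℝ) • (toV x - ((1 / 2 : ℝ) • qip (toV x) (toV r)) • toV r) := by
    rw [smul_sub, smul_assoc, smul_assoc, smul_smul, smul_smul]
    norm_num
  have key2 : ((4 : ℤ) : ℝ) • (2 : ℝ) • toH u • toV s = (8 : ℝ) • (toH u • toV s) := by
    rw [smul_smul]; norm_num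
  rw [key, key2]
  constructor
  · intro h
    exact smul_right_injective _ (by norm_num : (8 : ℝ) ≠ 0) h
  · intro h
    rw [h]

end Cfsg.Agent.Icosian.Model
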